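import Groth.Agent.TFModLib.Res
import Groth.Agent.TFQuotLib.Basic
import Groth.Agent.ConsLib.ModLoci
import Groth.Agent.CycKSuppLib.Killed

/-!
# The elementary modification on the special fibre
-/

set_option autoImplicit false
set_option linter.style.haveILetI false
set_option linter.unusedSectionVars false

universe u

open CategoryTheory CategoryTheory.Limits AlgebraicGeometry TopologicalSpace Opposite
open DevissLib

noncomputable section

namespace TFModLib

theorem eq_zero_of_stalks {X : Scheme.{u}} {M N : X.Modules} (φ : M ⟶ N)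
    (h : ∀ x (v : (St x).obj M), ((St x).map φ).hom v = 0) : φ = 0 :=
  Scheme.Modules.hom_ext _ _ fun U => ConcreteCategory.hom_ext _ _ fun s => by
    refine TopCat.Presheaf.section_ext (F := ⟨N.presheaf, N.isSheaf⟩) U _ _ fun x hx => ?_
    refine ((gm_app φ x hx s).symm.trans (h x _)).trans (Eq.symm ?_)
    exact map_zero _

theorem exists_of_kernel {X : Scheme.{u}} {M N : X.Modules} (φ : M ⟶ N) (x : X) {v : (St x).obj M}
    (h : ((St x).map φ).hom v = 0) : ∃ w, ((St x).map (kernel.ι φ)).hom w = v := by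
  have hS : (ShortComplex.mk (kernel.ι φ) φ (kernel.condition φ)).Exact :=
    ShortComplex.exact_of_f_is_kernel _ (kernelIsKernel φ)
  exact ((ShortComplex.ShortExact.moduleCat_exact_iff_function_exact _).mp (hS.map (St x)) v).mp h

variable {R : Type u} [CommRing R] [IsDomain R] [IsDiscreteValuationRing R]
  {X Xs : Scheme.{u}} (f : X ⟶ Spec (CommRingCat.of R)) [IsProper f] (i : Xs ⟶ X)
  (g : Xs ⟶ Spec (CommRingCat.of (IsLocalRing.ResidueField R)))

/-- The restriction of the modification is an extension, with the maps involved. -/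
theorem exists_extension'
    {ϖ : R} (hϖ : Irreducible ϖ)
    (hsq : IsPullback i g f (Spec.map (CommRingCat.ofHom (IsLocalRing.residue R))))
    {I : X.Modules} (hIc : Coh.IsCoh I) (hIf : FlatMod.IsFlatOver f I) {GY : Xs.Modules}
    (hGY : Coh.IsCoh GY) (πY : (Scheme.Modules.pullback i).obj I ⟶ GY) [Epi πY] {IY : X.Modules}
    (hIY : IY = kernel ((Scheme.Modules.pullbackPushforwardAdjunction i).unit.app I ≫
      (Scheme.Modules.pushforward i).map πY)) :
    ∃ (j : IY ⟶ I) (t : I ⟶ IY) (a : GY ⟶ (Scheme.Modules.pullback i).obj IY)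
      (b : (Scheme.Modules.pullback i).obj IY ⟶ (Scheme.Modules.pullback i).obj I),
      Mono a ∧ a ≫ b = 0 ∧ b ≫ πY = 0 ∧
      (∀ z w, ((St z).map b).hom w = 0 → ∃ u, ((St z).map a).hom u = w) ∧
      (∀ z m, ((St z).map πY).hom m = 0 → ∃ w, ((St z).map b).hom w = m) ∧
      Coh.IsCoh ((Scheme.Modules.pullback i).obj IY) ∧
      Mono j ∧ b = (Scheme.Modules.pullback i).map j ∧
      t ≫ j = (@Formal.smulMod R _ X ⟨f⟩ I ϖ) ∧ πY ≫ a = (Scheme.Modules.pullback i).map t ∧
      (∀ x ∉ Set.range ⇑i, Function.Surjective ((St x).map j).hom) ∧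
      (∀ z v, ((St z).map πY).hom (res i I z v) = 0 ↔ ∃ w, ((St (i z)).map j).hom w = v) := by
  subst hIY
  haveI := isClosedImmersion_of_isPullback f i g hsq
  letI : X.Over (Spec (CommRingCat.of R)) := ⟨f⟩
  haveI : IsLocallyNoetherian X := LocallyOfFiniteType.isLocallyNoetherian f
  let ψ := (Scheme.Modules.pullbackPushforwardAdjunction i).unit.app I ≫ (Scheme.Modules.pushforward i).map πY
  let j : kernel ψ ⟶ I := kernel.ι ψ
  have hker := ker_stalkMap f i g hsq hϖ
  have hrinj := fun x => smul_rho_injective f hIf hϖ.ne_zero x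
  have hjinj : ∀ x, Function.Injective ((St x).map j).hom := fun x =>
    (ModuleCat.mono_iff_injective _).mp inferInstance
  have hsm : ∀ (N : X.Modules) x (v : (St x).obj N),
      ((St x).map (Formal.smulMod R N ϖ)).hom v = rho f ϖ x • v := fun N x v =>
    Formal2VBLib.stalk_smulModΓ N _ x v
  have hres : ∀ (N : X.Modules) (z : Xs) (v : (St (i z)).obj N), res i N z (rho f ϖ (i z) • v) = 0 :=
    fun N z v => (res_eq_zero_iff i N z (hker z) _).mpr ⟨v, rfl⟩
  have hb : (Scheme.Modules.pullback i).map j ≫ πY = 0 := by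
    refine ((Scheme.Modules.pullbackPushforwardAdjunction i).homEquiv _ _).injective ?_
    rw [Adjunction.homEquiv_unit, Adjunction.homEquiv_unit, Functor.map_zero, comp_zero, Functor.map_comp,
      ← Category.assoc]
    refine (congrArg (· ≫ (Scheme.Modules.pushforward i).map πY)
      ((Scheme.Modules.pullbackPushforwardAdjunction i).unit.naturality j).symm).trans ?_
    exact (Category.assoc _ _ _).trans (kernel.condition ψ)
  have hB : ∀ (z : Xs) (m : (St z).obj ((Scheme.Modules.pullback i).obj I)), ((St z).map πY).hom m = 0 →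
      ∃ w, ((St z).map ((Scheme.Modules.pullback i).map j)).hom w = m := fun z m hm => by
    obtain ⟨v, rfl⟩ := res_surjective i I z m
    obtain ⟨U, hU, s, rfl⟩ := exists_gm_eq I (i z) v
    rw [res_gm] at hm
    have hm' := (gm_app πY z (U := i ⁻¹ᵁ U) hU _).symm.trans hm
    obtain ⟨O, hzO, i₁, i₂, hO⟩ := TopCat.Presheaf.germ_eq GY.presheaf z (U := i ⁻¹ᵁ U) (V := i ⁻¹ᵁ U)
      hU hU _ 0 (hm'.trans (map_zero _).symm)
    rw [map_zero] at hO
    obtain ⟨O', hO', hO''⟩ := i.isClosedEmbedding.isInducing.isOpen_iff.mp O.2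
    let U' : X.Opens := U ⊓ ⟨O', hO'⟩
    have hzU' : i z ∈ U' := ⟨hU, hO''.ge hzO⟩
    have hψ : ((St (i z)).map ψ).hom (gm I (i z) hU s) = 0 := by
      refine (gm_app ψ (i z) hU s).trans ?_
      let t : Γ(GY, i ⁻¹ᵁ U) := πY.app (i ⁻¹ᵁ U)
        (((Scheme.Modules.pullbackPushforwardAdjunction i).unit.app I).app U s)
      show gm ((Scheme.Modules.pushforward i).obj GY) (i z) hU (show Γ(GY, i ⁻¹ᵁ U) from t) = 0
      refine (gm_map ((Scheme.Modules.pushforward i).obj GY) (inf_le_left : U' ≤ U) (i z) hzU' _).symm.trans ?_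
      refine (congrArg (gm ((Scheme.Modules.pushforward i).obj GY) (i z) hzU') ?_).trans (gm_zero _ _ hzU')
      have hle : i ⁻¹ᵁ U' ≤ O := fun q hq => hO''.le hq.2
      change GY.presheaf.map (homOfLE (i.preimage_mono (inf_le_left : U' ≤ U))).op t = 0
      have h2 := congr_arg (GY.presheaf.map (homOfLE hle).op) hO
      rw [map_zero] at h2
      refine Eq.trans ?_ h2
      exact (ConcreteCategory.congr_hom (GY.presheaf.map_comp i₁.op (homOfLE hle).op) t)
    obtain ⟨w, hw⟩ := exists_of_kernel ψ (i z) hψ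
    exact ⟨res i _ z w, (res_map i j z w).trans (congrArg (res i I z) hw)⟩
  have ht0 : Formal.smulMod R I ϖ ≫ ψ = 0 := by
    have h0 : (Scheme.Modules.pullback i).map (Formal.smulMod R I ϖ) = 0 := eq_zero_of_stalks _ fun z m => by
      obtain ⟨v, rfl⟩ := res_surjective i I z m
      rw [res_map, hsm, hres]
    refine (Category.assoc _ _ _).symm.trans ?_
    refine (congrArg (· ≫ (Scheme.Modules.pushforward i).map πY)
      ((Scheme.Modules.pullbackPushforwardAdjunction i).unit.naturality (Formal.smulMod R I ϖ))).trans ?_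
    dsimp only [Functor.comp_map]
    rw [h0, Functor.map_zero, comp_zero, zero_comp]
  let t : I ⟶ kernel ψ := kernel.lift ψ (Formal.smulMod R I ϖ) ht0
  have htj : ∀ x (v : (St x).obj I), ((St x).map j).hom (((St x).map t).hom v) = rho f ϖ x • v := fun x v => by
    rw [← ModuleCat.comp_apply, ← Functor.map_comp, show t ≫ j = _ from kernel.lift_ι _ _ _, hsm]
  let b := (Scheme.Modules.pullback i).map j
  let c := (Scheme.Modules.pullback i).map t
  have hC : ∀ z w, ((St z).map c).hom (((St z).map b).hom w) = 0 := fun z w => by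
    obtain ⟨v, rfl⟩ := res_surjective i _ z w
    rw [res_map, res_map]
    refine (congrArg (res i (kernel ψ) z) (hjinj (i z) (?_ : _ = ((St (i z)).map j).hom
      (rho f ϖ (i z) • v)))).trans (hres _ z v)
    rw [htj, map_smul]
  have hC' : ∀ z m, ((St z).map b).hom (((St z).map c).hom m) = 0 := fun z m => by
    obtain ⟨v, rfl⟩ := res_surjective i I z m
    rw [res_map, res_map, htj]
    exact hres _ z v
  have hk : kernel.ι πY ≫ c = 0 := eq_zero_of_stalks _ fun z v => by
    rw [Functor.map_comp, ModuleCat.comp_apply]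
    obtain ⟨w, hw⟩ := hB z (((St z).map (kernel.ι πY)).hom v) (by
      rw [← ModuleCat.comp_apply, ← Functor.map_comp, kernel.condition, Functor.map_zero]
      rfl)
    rw [← hw]
    exact hC z w
  let a : GY ⟶ (Scheme.Modules.pullback i).obj (kernel ψ) :=
    (Abelian.epiIsCokernelOfKernel _ (kernelIsKernel πY)).desc (CokernelCofork.ofπ c hk)
  have ha : πY ≫ a = c :=
    (Abelian.epiIsCokernelOfKernel _ (kernelIsKernel πY)).fac (CokernelCofork.ofπ c hk) WalkingParallelPair.one
  have hπs : ∀ z, Function.Surjective ((St z).map πY).hom := fun z =>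
    (ModuleCat.epi_iff_surjective _).mp inferInstance
  have hac : ∀ z m, ((St z).map a).hom (((St z).map πY).hom m) = ((St z).map c).hom m := fun z m => by
    rw [← ModuleCat.comp_apply, ← Functor.map_comp, ha]
  have hoff : ∀ x ∉ Set.range ⇑i, Function.Surjective ((St x).map j).hom := fun x hx v => by
    haveI : Subsingleton ((St x).obj ((Scheme.Modules.pushforward i).obj GY)) :=
      not_not.mp fun hh => hx (DevissLib.support_push_subset i GY hh)
    exact exists_of_kernel ψ x (Subsingleton.elim _ _)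
  have hiff : ∀ z v, ((St z).map πY).hom (res i I z v) = 0 ↔ ∃ w, ((St (i z)).map j).hom w = v := fun z v => by
    refine ⟨fun h => ?_, ?_⟩
    · obtain ⟨w, hw⟩ := hB z _ h
      obtain ⟨w, rfl⟩ := res_surjective i _ z w
      rw [res_map] at hw
      obtain ⟨v', hv'⟩ := (res_eq_zero_iff i I z (hker z) (v - ((St (i z)).map j).hom w)).mp (by
        refine (?_ : _ = res i I z v - res i I z (((St (i z)).map j).hom w)).trans (sub_eq_zero.mpr hw.symm)
        rw [eq_sub_iff_add_eq, ← res_add, sub_add_cancel])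
      refine ⟨w + ((St (i z)).map t).hom v', ?_⟩
      rw [map_add, htj, ← hv', add_sub_cancel]
    · rintro ⟨w, rfl⟩
      rw [← res_map, ← ModuleCat.comp_apply, ← Functor.map_comp, hb, Functor.map_zero]
      rfl
  refine ⟨j, t, a, b, ?_, ?_, hb, fun z w hw => ?_, hB, ?_, inferInstance, rfl, kernel.lift_ι _ _ _, ha, hoff, hiff⟩
  · refine Preadditive.mono_of_cancel_zero _ fun {G} φ hφ => eq_zero_of_stalks φ fun z y => ?_
    have h := congrArg (fun θ : G ⟶ _ => ((St z).map θ).hom y) hφ
    simp only [Functor.map_comp, Functor.map_zero, ModuleCat.comp_apply] at h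
    obtain ⟨m, hm⟩ := hπs z (((St z).map φ).hom y)
    rw [← hm, hac] at h
    rw [← hm]
    obtain ⟨v, rfl⟩ := res_surjective i I z m
    rw [res_map] at h
    obtain ⟨v', hv'⟩ := (res_eq_zero_iff i _ z (hker z) _).mp (h.trans (by rfl))
    have h1 : v = ((St (i z)).map j).hom v' := hrinj (i z) (by
      show rho f ϖ (i z) • v = rho f ϖ (i z) • _
      rw [← htj, hv', map_smul])
    rw [h1, ← res_map, ← ModuleCat.comp_apply, ← Functor.map_comp, hb, Functor.map_zero]
    rfl
  · refine (cancel_epi πY).mp ?_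
    rw [← Category.assoc, ha, comp_zero]
    exact eq_zero_of_stalks _ fun z m => by
      rw [Functor.map_comp, ModuleCat.comp_apply]
      exact hC' z m
  · obtain ⟨v, rfl⟩ := res_surjective i _ z w
    rw [res_map] at hw
    obtain ⟨v', hv'⟩ := (res_eq_zero_iff i _ z (hker z) _).mp hw
    refine ⟨((St z).map πY).hom (res i I z v'), ?_⟩
    rw [hac, res_map]
    refine congrArg (res i (kernel ψ) z) (hjinj (i z) ?_)
    rw [htj, hv']
  · haveI := hIc.1
    exact ConsLib.isCoh_pullback i (QCohLib.isCoh_kernel ψ hIc (QCohLib.isCoh_push_finite i GY hGY).1)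

/-- The restriction of the modification is an extension. -/
theorem exists_extension
    (hsq : IsPullback i g f (Spec.map (CommRingCat.ofHom (IsLocalRing.residue R))))
    {I : X.Modules} (hIc : Coh.IsCoh I) (hIf : FlatMod.IsFlatOver f I) {GY : Xs.Modules}
    (hGY : Coh.IsCoh GY) (πY : (Scheme.Modules.pullback i).obj I ⟶ GY) [Epi πY] {IY : X.Modules}
    (hIY : IY = kernel ((Scheme.Modules.pullbackPushforwardAdjunction i).unit.app I ≫
      (Scheme.Modules.pushforward i).map πY)) :
    ∃ (a : GY ⟶ (Scheme.Modules.pullback i).obj IY)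
      (b : (Scheme.Modules.pullback i).obj IY ⟶ (Scheme.Modules.pullback i).obj I),
      Mono a ∧ a ≫ b = 0 ∧ b ≫ πY = 0 ∧
      (∀ z w, ((St z).map b).hom w = 0 → ∃ u, ((St z).map a).hom u = w) ∧
      (∀ z m, ((St z).map πY).hom m = 0 → ∃ w, ((St z).map b).hom w = m) ∧
      Coh.IsCoh ((Scheme.Modules.pullback i).obj IY) := by
  obtain ⟨ϖ, hϖ⟩ := IsDiscreteValuationRing.exists_irreducible R
  obtain ⟨j, t, a, b, h1, h2, h3, h4, h5, h6, -⟩ := exists_extension' f i g hϖ hsq hIc hIf hGY πY hIY
  exact ⟨a, b, h1, h2, h3, h4, h5, h6⟩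

end TFModLib

end
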