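import Groth.Agent.TFModLib.Res
import Mathlib.RingTheory.Flat.TorsionFree
import Mathlib.RingTheory.Flat.Localization

/-!
# Flatness over a discrete valuation ring
-/

set_option autoImplicit false
set_option linter.style.haveILetI false
set_option linter.unusedSectionVars false

universe u

open CategoryTheory CategoryTheory.Limits AlgebraicGeometry TopologicalSpace Opposite
open DevissLib

noncomputable section

namespace TFModLib

variable {R : Type u} [CommRing R] [IsDomain R] [IsDiscreteValuationRing R]
  {X : Scheme.{u}} (f : X ⟶ Spec (CommRingCat.of R))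

theorem rho_mul (a b : R) (x : X) : rho f (a * b) x = rho f a x * rho f b x :=
  (congrArg _ (map_mul (Coh.toGlobal f) a b)).trans (map_mul (X.presheaf.germ ⊤ x trivial).hom _ _)

theorem rho_pow (a : R) (n : ℕ) (x : X) : rho f (a ^ n) x = rho f a x ^ n :=
  (congrArg _ (map_pow (Coh.toGlobal f) a n)).trans (map_pow (X.presheaf.germ ⊤ x trivial).hom _ _)

theorem isUnit_rho_unit (u : Rˣ) (x : X) : IsUnit (rho f (u : R) x) :=
  ((u.isUnit.map (Coh.toGlobal f)).map (X.presheaf.germ ⊤ x trivial).hom)

theorem isUnit_rho_of_notMem {a : R} {x : X} (ha : a ∉ (f x).asIdeal) : IsUnit (rho f a x) := by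
  have h : x ∈ X.basicOpen (Coh.toGlobal f a) := by
    have h4 : x ∈ f ⁻¹ᵁ (Spec (CommRingCat.of R)).basicOpen ((Scheme.ΓSpecIso (CommRingCat.of R)).inv a) := by
      show f x ∈ (Spec (CommRingCat.of R)).basicOpen _
      rw [basicOpen_eq_of_affine']
      have h5 : (Scheme.ΓSpecIso (CommRingCat.of R)).hom ((Scheme.ΓSpecIso (CommRingCat.of R)).inv a) = a :=
        congr($((Scheme.ΓSpecIso (CommRingCat.of R)).inv_hom_id) a)
      rw [h5]
      exact ha
    rw [Scheme.preimage_basicOpen_top] at h4
    exact h4
  exact (X.mem_basicOpen _ x (U := ⊤) trivial).mp h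

theorem isUnit_rho {Xs : Scheme.{u}} {i : Xs ⟶ X} {g : Xs ⟶ Spec (CommRingCat.of (IsLocalRing.ResidueField R))}
    (hsq : IsPullback i g f (Spec.map (CommRingCat.ofHom (IsLocalRing.residue R)))) {ϖ : R} (hϖ : Irreducible ϖ)
    {x : X} (hx : x ∉ Set.range ⇑i) : IsUnit (rho f ϖ x) := by
  refine isUnit_rho_of_notMem f fun hm => hx ?_
  have hle : IsLocalRing.maximalIdeal R ≤ (f x).asIdeal := by
    rw [hϖ.maximalIdeal_eq, Ideal.span_le, Set.singleton_subset_iff]
    exact hm
  have heq : IsLocalRing.maximalIdeal R = (f x).asIdeal :=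
    (IsLocalRing.maximalIdeal.isMaximal R).eq_of_le (f x).isPrime.ne_top hle
  let pt : Spec (CommRingCat.of (IsLocalRing.ResidueField R)) :=
    (⟨⊥, Ideal.isPrime_bot⟩ : PrimeSpectrum (IsLocalRing.ResidueField R))
  obtain ⟨z, hz, -⟩ := Scheme.exists_preimage_of_isPullback hsq x pt (by
    refine PrimeSpectrum.ext (heq.symm.trans ?_)
    show IsLocalRing.maximalIdeal R = Ideal.comap (IsLocalRing.residue R) ⊥
    rw [← RingHom.ker_eq_comap_bot]
    exact (IsLocalRing.ker_residue).symm)
  exact ⟨z, hz⟩

/-- A module on which the uniformiser acts injectively is flat. -/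
theorem isFlatOver_of_injective {M : X.Modules} {ϖ : R} (hϖ : Irreducible ϖ)
    (h : ∀ x : X, Function.Injective fun m : (St x).obj M => rho f ϖ x • m) : FlatMod.IsFlatOver f M := fun x => by
  let B := (Spec (CommRingCat.of R)).presheaf.stalk (f x)
  letI := FlatMod.moduleStalkOver f M x
  letI : Algebra R B := StructureSheaf.stalkAlgebra R (f x)
  haveI : IsLocalization.AtPrime B (f x).asIdeal := StructureSheaf.IsLocalization.to_stalk R (f x)
  letI : Module R (M.presheaf.stalk x) := Module.compHom _ (algebraMap R B)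
  haveI : IsScalarTower R B (M.presheaf.stalk x) := IsScalarTower.of_algebraMap_smul fun r m => rfl
  have hcomp : ∀ (r : R) (m : M.presheaf.stalk x), r • m = rho f r x • (show (St x).obj M from m) := fun r m =>
    congrArg (fun t : X.presheaf.stalk x => t • (show (St x).obj M from m))
      (Scheme.Hom.germ_stalkMap_apply f ⊤ x trivial _)
  haveI : Module.IsTorsionFree R (M.presheaf.stalk x) := ⟨fun r hr m m' hm => by
    obtain ⟨n, hn⟩ := IsDiscreteValuationRing.associated_pow_irreducible hr.ne_zero hϖ
    obtain ⟨u, rfl⟩ := hn.symm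
    change (ϖ ^ n * (u : R)) • m = (ϖ ^ n * (u : R)) • m' at hm
    rw [hcomp, hcomp, rho_mul, rho_pow, mul_smul, mul_smul] at hm
    refine (isUnit_rho_unit f u x).smul_left_cancel.mp ?_
    clear hr hn
    induction n with
    | zero =>
      rw [pow_zero, one_smul, one_smul] at hm
      exact hm
    | succ n ih =>
      rw [pow_succ', mul_smul, mul_smul] at hm
      exact ih (h x hm)⟩
  exact (Module.flat_iff_of_isLocalization B (f x).asIdeal.primeCompl (M := M.presheaf.stalk x)).mpr inferInstance

end TFModLib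

end
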