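import Groth.Agent.TFModLib.Main
import Groth.Agent.IntMultLib.Positive

/-!
# Decomposition criterion
-/

set_option autoImplicit false
set_option linter.style.haveILetI false
set_option linter.unusedSectionVars false

universe u

open CategoryTheory CategoryTheory.Limits AlgebraicGeometry TopologicalSpace Opposite
open DevissLib IntMultLib TFQuotLib

noncomputable section

namespace TFModLib

variable {k : Type u} [Field k] {X : Scheme.{u}} [X.Over (Spec (CommRingCat.of k))]
  [IsProper (X ↘ Spec (CommRingCat.of k))] [AlgebraicGeometry.IsNoetherian X] [IsReduced X]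

theorem isZero_of_euler_eq_zero (hd : topologicalKrullDim X ≤ 1) {R : X.Modules} (hR : Coh.IsCoh R)
    (h : ∀ η ∈ genericPoints X, η ∉ CohB1.support R) (h0 : Curv2.euler k X R = 0) : IsZero R := by
  refine DevissLib.isZero_of_support_empty (Set.not_nonempty_iff_eq_empty.mp fun hne => ?_)
  have hle : topologicalKrullDim (CohB1.support R) ≤ 0 := by
    refine CurvLib.dim_le_zero_of_no_maximal hd (QCohLib.isClosed_support R hR.2) fun x hx => ?_
    by_contra hn
    push Not at hn
    exact h x (mem_genericPoints hn) hx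
  have hge : (0 : WithBot ℕ∞) ≤ topologicalKrullDim (CohB1.support R) := by
    haveI : Nonempty (IrreducibleCloseds (CohB1.support R)) :=
      ⟨⟨closure {⟨_, hne.some_mem⟩}, isIrreducible_singleton.closure, isClosed_closure⟩⟩
    exact Order.krullDim_nonneg
  have := IntMultLib.euler_pos_of_dim_zero (k := k) hR (le_antisymm hle hge)
  omega

/-- The projections to complementary quotients split exactly when the numbers add up. -/
theorem isIso_lift_iff (hd : topologicalKrullDim X ≤ 1) {N : X.Modules} (hN : TFOne.IsTF1 X N) {Y Y' : Set X}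
    (hY' : ∀ η ∈ genericPoints X, η ∈ Y' ↔ η ∉ Y) {G1 G2 : X.Modules} {π1 : N ⟶ G1} {π2 : N ⟶ G2}
    (h1 : TFOne.IsQuotOn X N Y G1 π1) (h2 : TFOne.IsQuotOn X N Y' G2 π2) :
    IsIso (biprod.lift π1 π2) ↔ Curv2.euler k X N = Curv2.euler k X G1 + Curv2.euler k X G2 := by
  classical
  have hB := DevissLib.isCoh_biprod h1.2.1 h2.2.1
  have a3 : Curv2.euler k X (G1 ⊞ G2) = Curv2.euler k X G1 + Curv2.euler k X G2 :=
    CurvLib.euler_add_of_isCoh (k := k)
      (S := ShortComplex.mk (biprod.inl : G1 ⟶ G1 ⊞ G2) biprod.snd biprod.inl_snd)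
      (ShortComplex.Splitting.ofHasBinaryBiproduct G1 G2).shortExact h1.2.1 hB h2.2.1
  constructor
  · intro hi
    rw [← a3]
    exact CurvLib.euler_congr (@asIso _ _ _ _ (biprod.lift π1 π2) hi)
  intro he
  haveI : Mono (biprod.lift π1 π2) := mono_of_generic _ hN.1 hN.2.1 hB.1 fun η hη u v huv => by
    have hc : ∀ {H : X.Modules} (p : G1 ⊞ G2 ⟶ H) (q : N ⟶ H), biprod.lift π1 π2 ≫ p = q →
        ((St η).map q).hom u = ((St η).map q).hom v := fun p q e => by
      rw [← e, Functor.map_comp, ModuleCat.comp_apply, ModuleCat.comp_apply, huv]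
    by_cases h : η ∈ Y
    · exact injective_quot hN h1 hη h (hc _ _ (biprod.lift_fst _ _))
    · exact injective_quot hN h2 hη ((hY' η hη).mpr h) (hc _ _ (biprod.lift_snd _ _))
  haveI := hN.1.1
  have hS : (ShortComplex.mk (biprod.lift π1 π2) (cokernel.π _) (cokernel.condition _)).ShortExact :=
    { exact := ShortComplex.exact_of_g_is_cokernel _ (cokernelIsCokernel _) }
  have hC : Coh.IsCoh (cokernel (biprod.lift π1 π2)) := QCohLib.isCoh_cokernel _ hN.1.1 hB
  have a := CurvLib.euler_add_of_isCoh hS (k := k) hN.1 hB hC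
  simp only at a
  haveI : Epi (biprod.lift π1 π2) := Preadditive.epi_of_isZero_cokernel _
    (isZero_of_euler_eq_zero (k := k) hd hC (fun η hη hs => hs (Module.length_eq_zero_iff.mp (by
      have e := len_add hS η
      simp only at e
      change IntMultLib.len (cokernel (biprod.lift π1 π2)) η = 0
      rw [len_biprod, len_rkOne hN hη, len_quot hN h1 hη, len_quot hN h2 hη] at e
      generalize IntMultLib.len (cokernel (biprod.lift π1 π2)) η = l at e ⊢
      cases l with
      | top => by_cases h : η ∈ Y <;> simp [h, hY' η hη] at e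
      | coe l =>
        by_cases h : η ∈ Y <;> simp [h, hY' η hη] at e <;> norm_cast at e ⊢ <;> omega))) (by omega))
  exact isIso_of_mono_of_epi _

end TFModLib

end
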