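import Groth.Agent.TFModLib.Flat
import Groth.Agent.TFModLib.Split
import Groth.Agent.FCohLib.AlgzFaithful
import Groth.Agent.DevissLib.Induction
import Groth.Agent.S0004
import Mathlib.RingTheory.Filtration

/-!
# The limit quotient of a tower of modifications
-/

set_option autoImplicit false
set_option linter.style.haveILetI false
set_option linter.unusedSectionVars false

universe u

open CategoryTheory CategoryTheory.Limits AlgebraicGeometry TopologicalSpace Opposite
open DevissLib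

noncomputable section

namespace TFModLib

section Stalks

variable {X : Scheme.{u}} {M N : X.Modules}

theorem eq_of_stalks (φ ψ : M ⟶ N) (h : ∀ x (v : (St x).obj M), ((St x).map φ).hom v = ((St x).map ψ).hom v) :
    φ = ψ :=
  Scheme.Modules.hom_ext _ _ fun U => ConcreteCategory.hom_ext _ _ fun s =>
    TopCat.Presheaf.section_ext (F := ⟨N.presheaf, N.isSheaf⟩) U _ _ fun x hx =>
      (gm_app φ x hx s).symm.trans ((h x _).trans (gm_app ψ x hx s))

theorem stalk_comp {P : X.Modules} (φ : M ⟶ N) (ψ : N ⟶ P) (x : X) (v : (St x).obj M) :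
    ((St x).map (φ ≫ ψ)).hom v = ((St x).map ψ).hom (((St x).map φ).hom v) := by
  rw [Functor.map_comp]
  rfl

theorem mono_of_stalks (φ : M ⟶ N) (h : ∀ x (v : (St x).obj M), ((St x).map φ).hom v = 0 → v = 0) : Mono φ :=
  Preadditive.mono_of_cancel_zero _ fun {_} ψ hψ => eq_zero_of_stalks ψ fun x y =>
    h x _ (stalk_comp_zero ψ φ hψ x y)

theorem epi_of_stalks (φ : M ⟶ N) (h : ∀ x, Function.Surjective ((St x).map φ).hom) : Epi φ :=
  Preadditive.epi_of_cancel_zero _ fun {_} ψ hψ => eq_zero_of_stalks ψ fun x v => by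
    obtain ⟨w, rfl⟩ := h x v
    exact stalk_comp_zero φ ψ hψ x w

theorem cokernel_eq_zero_iff (φ : M ⟶ N) (x : X) (v : (St x).obj N) :
    ((St x).map (cokernel.π φ)).hom v = 0 ↔ ∃ w, ((St x).map φ).hom w = v := by
  have hS : (ShortComplex.mk φ (cokernel.π φ) (cokernel.condition φ)).Exact :=
    ShortComplex.exact_of_g_is_cokernel _ (cokernelIsCokernel φ)
  exact ((ShortComplex.ShortExact.moduleCat_exact_iff_function_exact _).mp (hS.map (St x)) v)

theorem isZero_of_stalks (h : ∀ x (v : (St x).obj M), v = 0) : IsZero M :=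
  (IsZero.iff_id_eq_zero M).mpr (eq_zero_of_stalks _ fun x v => (congrArg _ (h x v)).trans (map_zero _))

end Stalks

variable {R : Type u} [CommRing R] [IsDomain R] [IsDiscreteValuationRing R]
  {X : Scheme.{u}} [X.Over (Spec (CommRingCat.of R))]

local notation "fX" => (X ↘ Spec (CommRingCat.of R))

theorem stalk_smul (N : X.Modules) (a : R) (x : X) (v : (St x).obj N) :
    ((St x).map (Formal.smulMod R N a)).hom v = rho fX a x • v :=
  Formal2VBLib.stalk_smulModΓ N _ x v

theorem modPowπ_eq_zero_iff {ϖ : R} (hϖ : Irreducible ϖ) (n : ℕ) (M : X.Modules) (x : X) (v : (St x).obj M) :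
    ((St x).map (Formal.modPowπ (IsLocalRing.maximalIdeal R) n M)).hom v = 0 ↔
      ∃ w : (St x).obj M, v = rho fX ϖ x ^ n • w := by
  have hm : IsLocalRing.maximalIdeal R ^ n = Ideal.span {ϖ ^ n} := by
    rw [hϖ.maximalIdeal_eq, Ideal.span_singleton_pow]
  have hex : ∀ a : (IsLocalRing.maximalIdeal R ^ n : Ideal R), ∃ c : R, c * ϖ ^ n = (a : R) := fun a =>
    Ideal.mem_span_singleton'.mp (hm ▸ a.2)
  choose c hc using hex
  have hfac : Formal.smulFamily (IsLocalRing.maximalIdeal R ^ n) M =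
      Sigma.desc (fun a => Formal.smulMod R M (c a)) ≫ Formal.smulMod R M (ϖ ^ n) := by
    refine Sigma.hom_ext _ _ fun a => ?_
    simp only [Formal.smulFamily, colimit.ι_desc, Cofan.mk_ι_app, colimit.ι_desc_assoc]
    refine eq_of_stalks (M := M) (N := M) _ _ fun y w => ?_
    refine (stalk_smul M (a : R) y w).trans (Eq.symm ((stalk_comp _ _ y w).trans
      ((stalk_smul M (ϖ ^ n) y _).trans ((congrArg (rho fX (ϖ ^ n) y • ·) (stalk_smul M (c a) y w)).trans ?_))))
    rw [← mul_smul, ← rho_mul, mul_comm (ϖ ^ n), hc]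
  refine Iff.trans (cokernel_eq_zero_iff (Formal.smulFamily (IsLocalRing.maximalIdeal R ^ n) M) x v) ?_
  constructor
  · rintro ⟨w, rfl⟩
    refine ⟨((St x).map (Sigma.desc fun a => Formal.smulMod R M (c a))).hom w, ?_⟩
    rw [← rho_pow, ← stalk_smul, ← ModuleCat.comp_apply, ← Functor.map_comp, ← hfac]
  · rintro ⟨w, rfl⟩
    have ha : ϖ ^ n ∈ IsLocalRing.maximalIdeal R ^ n := hm ▸ Ideal.mem_span_singleton_self _
    refine ⟨((St x).map (Sigma.ι (fun _ : (IsLocalRing.maximalIdeal R ^ n : Ideal R) => M) ⟨_, ha⟩)).hom w, ?_⟩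
    rw [← ModuleCat.comp_apply, ← Functor.map_comp]
    simp only [Formal.smulFamily, colimit.ι_desc, Cofan.mk_ι_app]
    rw [stalk_smul, rho_pow]

/-- A descending sequence of submodules, each containing the multiples of the previous one. -/
structure Tower (ϖ : R) where
  /-- the terms -/
  obj : ℕ → X.Modules
  /-- the inclusions -/
  j : ∀ n, obj (n + 1) ⟶ obj n
  /-- multiplication -/
  t : ∀ n, obj n ⟶ obj (n + 1)
  mono : ∀ n, Mono (j n)
  comp : ∀ n, t n ≫ j n = Formal.smulMod R (obj n) ϖ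

namespace Tower

variable {ϖ : R} (W : Tower (X := X) ϖ)

/-- The inclusion in the first term. -/
def ι : ∀ n, W.obj n ⟶ W.obj 0
  | 0 => 𝟙 _
  | n + 1 => W.j n ≫ ι n

/-- Iterated multiplication. -/
def T : ∀ n, W.obj 0 ⟶ W.obj n
  | 0 => 𝟙 _
  | n + 1 => T n ≫ W.t n

theorem ι_inj : ∀ n (x : X), Function.Injective ((St x).map (W.ι n)).hom
  | 0, x => by
    simp only [Tower.ι, CategoryTheory.Functor.map_id]
    exact fun a b h => h
  | n + 1, x => fun a b h => by
    haveI := W.mono n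
    simp only [Tower.ι, Functor.map_comp, ModuleCat.comp_apply] at h
    exact stalk_inj (W.j n) x (ι_inj n x h)

theorem ι_succ (n : ℕ) (x : X) (v : (St x).obj (W.obj (n + 1))) :
    ((St x).map (W.ι (n + 1))).hom v = ((St x).map (W.ι n)).hom (((St x).map (W.j n)).hom v) := by
  simp only [Tower.ι, Functor.map_comp, ModuleCat.comp_apply]

theorem ι_t (n : ℕ) (x : X) (v : (St x).obj (W.obj n)) :
    ((St x).map (W.ι (n + 1))).hom (((St x).map (W.t n)).hom v) = rho fX ϖ x • ((St x).map (W.ι n)).hom v := by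
  rw [ι_succ, ← ModuleCat.comp_apply (f := (St x).map (W.t n)), ← Functor.map_comp, W.comp, stalk_smul, map_smul]

theorem ι_T : ∀ n (x : X) (v : (St x).obj (W.obj 0)),
    ((St x).map (W.ι n)).hom (((St x).map (W.T n)).hom v) = rho fX ϖ x ^ n • v
  | 0, x, v => by
    simp only [Tower.ι, Tower.T, CategoryTheory.Functor.map_id, pow_zero, one_smul]
    rfl
  | n + 1, x, v => by
    have h : ((St x).map (W.T (n + 1))).hom v = ((St x).map (W.t n)).hom (((St x).map (W.T n)).hom v) := by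
      simp only [Tower.T, Functor.map_comp, ModuleCat.comp_apply]
    rw [h, ι_t, ι_T n x v, pow_succ', mul_smul]

variable (hgen : ∀ n (x : X) (u : (St x).obj (W.obj n)), ∃ v w,
    u = ((St x).map (W.j n)).hom v + ((St x).map (W.T n)).hom w)
  (hcancel : ∀ n (x : X) (u : (St x).obj (W.obj n)),
    (∃ v, ((St x).map (W.t n)).hom u = ((St x).map (W.j (n + 1))).hom v) →
      ∃ v, u = ((St x).map (W.j n)).hom v)

include hcancel in
theorem mem_of_rho_mem : ∀ n (x : X) (v : (St x).obj (W.obj 0)),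
    (∃ u, ((St x).map (W.ι (n + 1))).hom u = rho fX ϖ x • v) → ∃ u, ((St x).map (W.ι n)).hom u = v
  | 0, x, v, _ => ⟨v, by simp only [Tower.ι, CategoryTheory.Functor.map_id]; rfl⟩
  | n + 1, x, v, ⟨u, hu⟩ => by
    rw [ι_succ] at hu
    obtain ⟨v', hv'⟩ := mem_of_rho_mem n x v ⟨_, hu⟩
    have h1 : ((St x).map (W.t n)).hom v' = ((St x).map (W.j (n + 1))).hom u := ι_inj W (n + 1) x (by
      rw [ι_t, hv', hu])
    obtain ⟨v'', hv''⟩ := hcancel n x v' ⟨u, h1⟩
    exact ⟨v'', by rw [ι_succ, ← hv'', hv']⟩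

/-- The quotients of the first term. -/
abbrev Q (n : ℕ) : X.Modules := cokernel (W.ι (n + 1))

/-- The transition maps of the quotients. -/
def q (n : ℕ) : W.Q (n + 1) ⟶ W.Q n :=
  cokernel.desc _ (cokernel.π (W.ι (n + 1))) (by
    show (W.j (n + 1) ≫ W.ι (n + 1)) ≫ _ = 0
    rw [Category.assoc, cokernel.condition, comp_zero])

theorem π_q (n : ℕ) : cokernel.π (W.ι (n + 2)) ≫ W.q n = cokernel.π (W.ι (n + 1)) := cokernel.π_desc _ _ _

theorem killed (n : ℕ) (x : X) (y : (St x).obj (W.Q n)) : rho fX ϖ x ^ (n + 1) • y = 0 := by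
  obtain ⟨v, rfl⟩ := stalk_surj (cokernel.π (W.ι (n + 1))) x y
  rw [← map_smul, cokernel_eq_zero_iff]
  exact ⟨_, ι_T W (n + 1) x v⟩

/-- The system of quotients. -/
def sys : ℕᵒᵖ ⥤ X.Modules := Functor.ofOpSequence (X := W.Q) W.q

include hgen in
theorem isCohFormal (hϖ : Irreducible ϖ) [IsLocallyNoetherian X] (hc : ∀ n, Coh.IsCoh (W.obj n)) :
    Formal.IsCohFormal (IsLocalRing.maximalIdeal R) W.sys := by
  haveI := fun n => (hc n).1
  refine ⟨fun n => QCohLib.isCoh_cokernel (W.ι (n + 1)) inferInstance (hc 0), fun n a ha => ?_, fun n => ?_⟩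
  · refine eq_zero_of_stalks _ fun x y => ?_
    have hm : IsLocalRing.maximalIdeal R ^ (n + 1) = Ideal.span {ϖ ^ (n + 1)} := by
      rw [hϖ.maximalIdeal_eq, Ideal.span_singleton_pow]
    obtain ⟨c, rfl⟩ := Ideal.mem_span_singleton'.mp (hm ▸ ha)
    rw [stalk_smul, rho_mul, rho_pow, mul_smul]
    refine (congrArg (fun t => rho fX c x • t) (killed W n x y)).trans ?_
    exact smul_zero (A := (St x).obj (W.Q n)) _
  · have hmap : W.sys.map (homOfLE (Nat.le_succ n)).op = W.q n := Functor.ofOpSequence_map_homOfLE_succ _ n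
    have hm : IsLocalRing.maximalIdeal R ^ (n + 1) = Ideal.span {ϖ ^ (n + 1)} := by
      rw [hϖ.maximalIdeal_eq, Ideal.span_singleton_pow]
    have h0 : Formal.smulFamily (IsLocalRing.maximalIdeal R ^ (n + 1)) (W.Q (n + 1)) ≫ W.q n = 0 := by
      refine Sigma.hom_ext _ _ fun a => ?_
      rw [comp_zero]
      simp only [Formal.smulFamily, colimit.ι_desc_assoc, Cofan.mk_ι_app]
      refine eq_zero_of_stalks (M := W.Q (n + 1)) _ fun x y => ?_
      obtain ⟨c, hc⟩ := Ideal.mem_span_singleton'.mp (show (a : R) ∈ Ideal.span {ϖ ^ (n + 1)} from hm ▸ a.2)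
      refine (stalk_comp _ _ x y).trans ?_
      rw [stalk_smul, map_smul, ← hc, rho_mul, rho_pow, mul_smul, killed, smul_zero]
    rw [hmap]
    refine ⟨h0, ?_⟩
    haveI : Epi (W.q n) := by
      haveI : Epi (cokernel.π (W.ι (n + 2)) ≫ W.q n) := (π_q W n).symm ▸ inferInstance
      exact epi_of_epi (cokernel.π (W.ι (n + 2))) _
    let d := cokernel.desc (Formal.smulFamily (IsLocalRing.maximalIdeal R ^ (n + 1)) (W.Q (n + 1))) (W.q n) h0
    haveI : Epi d := by
      haveI : Epi (cokernel.π _ ≫ d) := (cokernel.π_desc _ (W.q n) h0).symm ▸ inferInstance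
      exact epi_of_epi (cokernel.π _) d
    haveI : Mono d := mono_of_stalks d fun x y hy => by
      obtain ⟨y, rfl⟩ := stalk_surj (cokernel.π _) x y
      rw [← ModuleCat.comp_apply, ← Functor.map_comp, cokernel.π_desc] at hy
      obtain ⟨v, rfl⟩ := stalk_surj (cokernel.π (W.ι (n + 2))) x y
      rw [← ModuleCat.comp_apply, ← Functor.map_comp, π_q, cokernel_eq_zero_iff] at hy
      obtain ⟨u, rfl⟩ := hy
      obtain ⟨v', w, rfl⟩ := hgen (n + 1) x u
      change ((St x).map (Formal.modPowπ (IsLocalRing.maximalIdeal R) (n + 1) (W.Q (n + 1)))).hom _ = 0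
      refine (modPowπ_eq_zero_iff hϖ (n + 1) _ x _).mpr ⟨((St x).map (cokernel.π (W.ι (n + 2)))).hom w, ?_⟩
      rw [map_add, map_add, ← ι_succ, ι_T, map_smul,
        (cokernel_eq_zero_iff (W.ι (n + 2)) x _).mpr ⟨v', rfl⟩, zero_add]
    exact isIso_of_mono_of_epi d

include hgen hcancel in
/-- The quotient attached to a tower. -/
theorem exists_quot [IsAdicComplete (IsLocalRing.maximalIdeal R) R] [IsProper fX] (hϖ : Irreducible ϖ)
    (hc : ∀ n, Coh.IsCoh (W.obj n)) :
    ∃ (F : X.Modules) (p : W.obj 0 ⟶ F), Coh.IsCoh F ∧ Epi p ∧ FlatMod.IsFlatOver fX F ∧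
      ∀ (x : X) (v : (St x).obj (W.obj 0)),
        (∃ w : (St x).obj F, ((St x).map p).hom v = rho fX ϖ x • w) ↔
          ∃ u, ((St x).map (W.j 0)).hom u = v := by
  haveI : IsLocallyNoetherian X := LocallyOfFiniteType.isLocallyNoetherian fX
  let J := IsLocalRing.maximalIdeal R
  have hF := isCohFormal W hgen hϖ hc
  obtain ⟨hhom, hex⟩ := Groth.Agent.S0004.result R J X
  obtain ⟨F, hFc, ⟨φ⟩⟩ := hex W.sys hF
  have hkill : ∀ n, Formal.smulFamily (J ^ (n + 1)) (W.obj 0) ≫ cokernel.π (W.ι (n + 1)) = 0 := fun n => by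
    have h := (modPowπ_eq_zero_iff (X := X) hϖ (n + 1) (W.obj 0))
    refine eq_zero_of_stalks _ fun x y => ?_
    rw [Functor.map_comp, ModuleCat.comp_apply]
    obtain ⟨w, hw⟩ := (h x (((St x).map (Formal.smulFamily (J ^ (n + 1)) (W.obj 0))).hom y)).mp
      ((cokernel_eq_zero_iff _ x _).mpr ⟨y, rfl⟩)
    rw [hw, map_smul]
    exact killed W n x _
  let γ : Formal.completion J (W.obj 0) ⟶ W.sys :=
    NatTrans.ofOpSequence (fun n => cokernel.desc _ (cokernel.π (W.ι (n + 1))) (hkill n)) fun n => by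
      change (Formal.completion J (W.obj 0)).map _ ≫ _ = _ ≫ W.sys.map _
      rw [show (Formal.completion J (W.obj 0)).map (homOfLE (Nat.le_succ n)).op = Formal.modPowTrans J (n + 1) _
          from Functor.ofOpSequence_map_homOfLE_succ _ n,
        show W.sys.map (homOfLE (Nat.le_succ n)).op = W.q n from Functor.ofOpSequence_map_homOfLE_succ _ n]
      haveI : Epi (Formal.modPowπ J (n + 1 + 1) (W.obj 0)) :=
        coequalizer.π_epi
      refine (cancel_epi (Formal.modPowπ J (n + 1 + 1) (W.obj 0))).mp ?_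
      refine ((Category.assoc _ _ _).symm.trans (congrArg (· ≫ _) (Formal.modPowπ_trans J (n + 1) (W.obj 0)))).trans ?_
      refine (cokernel.π_desc _ _ _).trans (Eq.symm ?_)
      refine ((Category.assoc _ _ _).symm.trans (congrArg (· ≫ _) (cokernel.π_desc _ _ _))).trans ?_
      exact π_q W n
  obtain ⟨p, hp, -⟩ := hhom (W.obj 0) F (hc 0) hFc (γ ≫ φ.inv)
  let κ : ∀ n, F ⟶ W.Q n := fun n => Formal.modPowπ J (n + 1) F ≫ φ.hom.app (op n)
  have hκ : ∀ n x (v : (St x).obj (W.obj 0)), ((St x).map (κ n)).hom (((St x).map p).hom v) =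
      ((St x).map (cokernel.π (W.ι (n + 1)))).hom v := fun n x v => by
    rw [← ModuleCat.comp_apply, ← Functor.map_comp]
    refine congrArg (fun θ : W.obj 0 ⟶ W.Q n => ((St x).map θ).hom v) ?_
    show p ≫ Formal.modPowπ J (n + 1) F ≫ φ.hom.app (op n) = _
    refine ((Category.assoc _ _ _).symm.trans (congrArg (· ≫ φ.hom.app (op n)) (hp n).symm)).trans ?_
    refine (Category.assoc _ _ _).trans ?_
    refine (congrArg (Formal.modPowπ J (n + 1) (W.obj 0) ≫ ·) (Category.assoc _ _ _)).trans ?_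
    refine (congrArg (fun θ => Formal.modPowπ J (n + 1) (W.obj 0) ≫ γ.app (op n) ≫ θ) (φ.inv_hom_id_app _)).trans ?_
    refine (congrArg (Formal.modPowπ J (n + 1) (W.obj 0) ≫ ·) (Category.comp_id _)).trans ?_
    exact cokernel.π_desc _ _ _
  have hκ0 : ∀ n x (y : (St x).obj F), ((St x).map (κ n)).hom y = 0 ↔ ∃ w, y = rho fX ϖ x ^ (n + 1) • w :=
    fun n x y => by
      rw [← modPowπ_eq_zero_iff hϖ]
      show ((St x).map (Formal.modPowπ J (n + 1) F ≫ φ.hom.app (op n))).hom y = 0 ↔ _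
      rw [Functor.map_comp, ModuleCat.comp_apply]
      exact ⟨fun h => stalk_inj (φ.hom.app (op n)) x (h.trans (map_zero _).symm), fun h => by
        exact (congrArg ((St x).map (φ.hom.app (op n))).hom h).trans (map_zero _)⟩
  have hmod : ∀ x (y : (St x).obj F), ∃ v w, y = ((St x).map p).hom v + rho fX ϖ x • w := fun x y => by
    obtain ⟨v, hv⟩ := stalk_surj (cokernel.π (W.ι 1)) x (((St x).map (κ 0)).hom y)
    obtain ⟨w, hw⟩ := (hκ0 0 x (y - ((St x).map p).hom v)).mp (by rw [map_sub, hκ, hv, sub_self])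
    rw [zero_add, pow_one] at hw
    exact ⟨v, w, (add_sub_cancel _ _).symm.trans (congrArg _ hw)⟩
  haveI hepi : Epi p := by
    haveI := (hc 0).1
    have hC : Coh.IsCoh (cokernel p) := QCohLib.isCoh_cokernel p inferInstance hFc
    refine Preadditive.epi_of_isZero_cokernel p (FCohLib.isZero_of_modPow J (Scheme.Hom.isClosedMap fX) hC
      (isZero_of_stalks fun x y => ?_))
    obtain ⟨y, rfl⟩ := stalk_surj (Formal.modPowπ J (0 + 1) (cokernel p)) x y
    obtain ⟨y, rfl⟩ := stalk_surj (cokernel.π p) x y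
    obtain ⟨v, w, rfl⟩ := hmod x y
    refine (modPowπ_eq_zero_iff hϖ _ _ x _).mpr ⟨((St x).map (cokernel.π p)).hom w, ?_⟩
    rw [map_add, (cokernel_eq_zero_iff p x _).mpr ⟨v, rfl⟩, zero_add, map_smul, zero_add, pow_one]
  refine ⟨F, p, hFc, hepi, isFlatOver_of_injective fX hϖ fun x => ?_, fun x v => ?_⟩
  · rcases em (IsUnit (rho fX ϖ x)) with h | h
    · exact fun a b hab => h.smul_left_cancel.mp hab
    suffices key : ∀ y : (St x).obj F, rho fX ϖ x • y = 0 → y = 0 from fun a b hab =>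
      sub_eq_zero.mp (key _ ((smul_sub _ _ _).trans (sub_eq_zero.mpr hab)))
    intro y hy
    have hall : ∀ n, ((St x).map (κ n)).hom y = 0 := fun n => by
      obtain ⟨v, rfl⟩ := stalk_surj p x y
      rw [hκ, cokernel_eq_zero_iff]
      refine mem_of_rho_mem W hcancel (n + 1) x v ?_
      rw [← cokernel_eq_zero_iff, ← hκ, map_smul, hy, map_zero]
    haveI := DevissLib.isNoetherian_stalk hFc x
    have hI : Ideal.span {rho fX ϖ x} ≠ ⊤ := fun hh => h (Ideal.span_singleton_eq_top.mp hh)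
    have hy' : y ∈ ⨅ n : ℕ, Ideal.span {rho fX ϖ x} ^ n • (⊤ : Submodule (X.presheaf.stalk x) ((St x).obj F)) := by
      refine Submodule.mem_iInf _ |>.mpr fun n => ?_
      rcases n with _ | n
      · rw [pow_zero, Ideal.one_eq_top, Submodule.top_smul]
        exact Submodule.mem_top
      obtain ⟨w, hw⟩ := (hκ0 n x y).mp (hall n)
      rw [hw]
      exact Submodule.smul_mem_smul (Ideal.pow_mem_pow (Ideal.mem_span_singleton_self _) _) Submodule.mem_top
    rw [Ideal.iInf_pow_smul_eq_bot_of_isLocalRing _ hI] at hy'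
    exact (Submodule.mem_bot _).mp hy'
  · constructor
    · rintro ⟨w, hw⟩
      have h : ((St x).map (cokernel.π (W.ι 1))).hom v = 0 := by
        rw [← hκ 0, hκ0]
        exact ⟨w, by rw [hw, zero_add, pow_one]⟩
      obtain ⟨u, hu⟩ := (cokernel_eq_zero_iff _ x _).mp h
      rw [ι_succ] at hu
      simp only [Tower.ι, CategoryTheory.Functor.map_id] at hu
      exact ⟨u, hu⟩
    · rintro ⟨u, rfl⟩
      obtain ⟨w, hw⟩ := (hκ0 0 x (((St x).map p).hom (((St x).map (W.j 0)).hom u))).mp (by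
        rw [hκ, cokernel_eq_zero_iff]
        exact ⟨u, by rw [ι_succ]; simp only [Tower.ι, CategoryTheory.Functor.map_id]; rfl⟩)
      exact ⟨w, by rw [hw, zero_add, pow_one]⟩

end Tower

end TFModLib

end
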