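import Groth.Agent.TFQuotLib.Push
import Groth.Agent.IntMultLib.Main
import Groth.Agent.IntMultLib.Components
import Groth.Agent.IntMultLib.CompSum

/-!
# The degree on subcurves is additive
-/

set_option autoImplicit false
set_option linter.style.haveILetI false
set_option linter.unusedSectionVars false

universe u

open CategoryTheory CategoryTheory.Limits AlgebraicGeometry TopologicalSpace
open DevissLib IntMultLib TFQuotLib

noncomputable section

namespace TFModLib

variable {k : Type u} [Field k] {X : Scheme.{u}} [X.Over (Spec (CommRingCat.of k))]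
  [IsProper (X ↘ Spec (CommRingCat.of k))] [IsReduced X]

theorem len_structure [AlgebraicGeometry.IsNoetherian X] {η : X} (hη : η ∈ genericPoints X) :
    len (Coh.structureModule X) η = 1 := by
  have hF : IsField (X.presheaf.stalk η) := by
    have : Ring.KrullDimLE 0 (X.presheaf.stalk η) := by
      refine Ring.krullDimLE_zero_iff.mpr fun q hq => ?_
      have hz : X.fromSpecStalk η ⟨q, hq⟩ = η := eq_of_specializes_generic hη (by
        have : X.fromSpecStalk η ⟨q, hq⟩ ∈ Set.range (X.fromSpecStalk η) := ⟨_, rfl⟩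
        rwa [Scheme.range_fromSpecStalk] at this)
      have : (⟨q, hq⟩ : PrimeSpectrum (X.presheaf.stalk η)) = IsLocalRing.closedPoint _ :=
        (X.fromSpecStalk η).isEmbedding.injective (hz.trans Scheme.fromSpecStalk_closedPoint.symm)
      rw [show q = IsLocalRing.maximalIdeal _ from congrArg PrimeSpectrum.asIdeal this]
      exact IsLocalRing.maximalIdeal.isMaximal _
    exact Ring.KrullDimLE.isField_of_isReduced
  refine (CurvLib.stalkStructureEquiv η).length_eq.trans ?_
  letI := hF.toField
  exact Module.length_eq_one_iff.mpr inferInstance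

theorem len_quotMod_vanishing [AlgebraicGeometry.IsNoetherian X] {η : X} (hη : η ∈ genericPoints X)
    {T : Set X} (hT : IsClosed T) [Decidable (η ∈ T)] :
    len (ClSub.quotMod (Scheme.IdealSheafData.vanishingIdeal ⟨T, hT⟩)) η = if η ∈ T then 1 else 0 := by
  let J := Scheme.IdealSheafData.vanishingIdeal (⟨T, hT⟩ : Closeds X)
  have hr : Set.range ⇑J.subschemeι = T := Scheme.IdealSheafData.range_subschemeι _
  split_ifs with h
  · haveI := CurvLib.epi_toSubscheme J
    have hle : len (ClSub.quotMod J) η ≤ len (Coh.structureModule X) η :=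
      Module.length_le_of_surjective ((St η).map (ClSub.toSubscheme J)).hom
        ((ModuleCat.epi_iff_surjective _).mp inferInstance)
    rw [len_structure hη] at hle
    refine le_antisymm hle (ENat.one_le_iff_ne_zero.mpr fun h0 => ?_)
    obtain ⟨z, rfl⟩ := hr.ge h
    have hz : z ∈ CohB1.support (Coh.structureModule J.subscheme) := by
      rw [IntMultLib.support_structureModule']
      trivial
    exact TFQuotLib.mem_support_push J.subschemeι hz (Module.length_eq_zero_iff.mp h0)
  · exact len_eq_zero fun hs => h (hr.le (DevissLib.support_push_subset J.subschemeι _ hs))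

/-- The degree of a vector bundle on the reduced closed subsets is additive in the components. -/
theorem exists_degFun' (hd : topologicalKrullDim X ≤ 1) {r : ℕ} {E : X.Modules}
    (hE : FlatMod.IsFinLocFreeOfRank r E) :
    ∃ D : Set X → ℤ,
      (∀ (T : Set X) (hT : IsClosed T),
        @Curv2.deg k _ (VecSt.subsch X T hT) ⟨VecSt.subschι X T hT ≫ (X ↘ Spec (CommRingCat.of k))⟩
          ((Scheme.Modules.pullback (VecSt.subschι X T hT)).obj E) r = D T) ∧
      (∀ Y Z W : Set X, (∀ η ∈ genericPoints X, η ∈ W ↔ η ∈ Y ∧ η ∈ Z) → D W + D (Y ∪ Z) = D Y + D Z) ∧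
      D Set.univ = Curv2.deg k X E r ∧ D ∅ = 0 ∧
      (∀ (F : X.Modules) (T : Set X) [DecidablePred (· ∈ T)], Coh.IsCoh F →
        (∀ η ∈ genericPoints X, len F η = if η ∈ T then 1 else 0) →
        Curv2.euler k X (CohB1.tensorMod F E) - r * Curv2.euler k X F = D T) := by
  classical
  haveI := CurvLib.isNoetherian k (X := X)
  let Φ : X.Modules → ℤ := fun M => Curv2.euler k X (CohB1.tensorMod M E) - r * Curv2.euler k X M
  have hiso : ∀ M N : X.Modules, (M ≅ N) → Φ M = Φ N := fun M N e => by
    simp only [Φ, CurvLib.euler_congr e, CurvLib.euler_congr (HilbPolyLib.congrLeft e E)]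
  have hadd : ∀ S : ShortComplex X.Modules, S.ShortExact → Coh.IsCoh S.X₁ → Coh.IsCoh S.X₂ →
      Coh.IsCoh S.X₃ → Φ S.X₂ = Φ S.X₁ + Φ S.X₃ := fun S hS h₁ h₂ h₃ => by
    have a := CurvLib.euler_add_of_isCoh (k := k) hS h₁ h₂ h₃
    have hcoh : ∀ M, Coh.IsCoh M → Coh.IsCoh (CohB1.tensorMod E M) := fun M hM =>
      QCohLib.isCoh_of_iso (HilbPolyLib.swapIso M E) (IntMultLib.isCoh_tensor_locFree hE hM)
    have b := CurvLib.euler_add_of_isCoh (k := k) (CurvLib.shortExact_tensor_locFree hE hS)
      (hcoh _ h₁) (hcoh _ h₂) (hcoh _ h₃)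
    have sw : ∀ M : X.Modules, Curv2.euler k X (CohB1.tensorMod E M) = Curv2.euler k X (CohB1.tensorMod M E) :=
      fun M => CurvLib.euler_congr (HilbPolyLib.swapIso E M)
    change Curv2.euler k X (CohB1.tensorMod E S.X₂) = Curv2.euler k X (CohB1.tensorMod E S.X₁) +
      Curv2.euler k X (CohB1.tensorMod E S.X₃) at b
    rw [sw, sw, sw] at b
    simp only [Φ, a, b]
    ring
  have hlow : ∀ M : X.Modules, Coh.IsCoh M →
      topologicalKrullDim (CohB1.support M) < ((1 : ℕ) : WithBot ℕ∞) → Φ M = 0 := fun M hM h => by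
    have h0 : topologicalKrullDim (CohB1.support M) ≤ 0 := by
      revert h
      generalize topologicalKrullDim (CohB1.support M) = t
      intro ht
      induction t with
      | bot => exact bot_le
      | coe a =>
        induction a with
        | top => exact absurd ht (by simp)
        | coe m =>
          have ht' : m < 1 := by exact_mod_cast ht
          exact_mod_cast Nat.lt_one_iff.mp ht' |>.le
    simp only [Φ, CurvLib.euler_tensor_locFree_of_dim_zero hM h0 hE, sub_self]
  have hd' : topologicalKrullDim (Set.univ : Set X) ≤ ((1 : ℕ) : WithBot ℕ∞) :=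
    (topologicalKrullDim_subspace_le _ _).trans (by exact_mod_cast hd)
  let S : Finset X := (finite_dim_points isClosed_univ hd').toFinset
  have hSg : ∀ ξ ∈ S, ξ ∈ genericPoints X := fun ξ hξ => mem_genericPoints fun z hz =>
    eq_of_specializes_of_dim isClosed_univ hd' ((Set.Finite.mem_toFinset _).mp hξ).2 (Set.mem_univ z) hz
  let c : X → ℤ := fun ξ => Φ (ClSub.quotMod (ptIdeal ξ))
  have hsum : ∀ M : X.Modules, Coh.IsCoh M → Φ M = ∑ ξ ∈ S, (len M ξ).toNat • c ξ := fun M hM => by
    rcases isEmpty_or_nonempty X with hX | hX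
    · rw [Finset.eq_empty_of_forall_notMem (s := S) fun ξ _ => hX.false ξ, Finset.sum_empty]
      refine hlow M hM (lt_of_le_of_lt (topologicalKrullDim_subspace_le _ _) ?_)
      haveI : IsEmpty (TopologicalSpace.IrreducibleCloseds X) := ⟨fun Z => hX.false Z.isIrreducible.1.some⟩
      simp [topologicalKrullDim, Order.krullDim_eq_bot]
    obtain ⟨T, hT, h⟩ := IntMultLib.additive_eq_sum (k := k) Φ hiso hadd hlow isClosed_univ
      Set.univ_nonempty hd' M hM (Set.subset_univ _)
    have : T = S := by
      ext ξ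
      rw [hT]
      exact ((finite_dim_points isClosed_univ hd').mem_toFinset).symm
    rw [h, this]
  refine ⟨fun T => ∑ ξ ∈ S, if ξ ∈ T then c ξ else 0, fun T hT => ?_, fun Y Z W hW => ?_, ?_, ?_, ?_⟩
  · rw [← IntMultLib.euler_quotMod_tensor k hE]
    refine (hsum _ (CurvLib.isCoh_quotMod _)).trans (Finset.sum_congr rfl fun ξ hξ => ?_)
    rw [len_quotMod_vanishing (hSg ξ hξ) hT]
    split_ifs <;> simp
  · dsimp only
    rw [← Finset.sum_add_distrib, ← Finset.sum_add_distrib]
    refine Finset.sum_congr rfl fun ξ hξ => ?_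
    have := hW ξ (hSg ξ hξ)
    by_cases h1 : ξ ∈ Y <;> by_cases h2 : ξ ∈ Z <;> simp [this, h1, h2]
  · have h1 := hsum _ (DevissLib.isCoh_structureModule X)
    have h2 : Φ (Coh.structureModule X) = Curv2.deg k X E r := by
      simp only [Φ, Curv2.deg]
      rw [CurvLib.euler_congr (HilbPolyLib.swapIso (Coh.structureModule X) E ≪≫ HilbPolyLib.swapIso E
        (Coh.structureModule X) ≪≫ HilbPolyLib.unitLeft E)]
    rw [← h2, h1]
    refine Finset.sum_congr rfl fun ξ hξ => ?_
    rw [len_structure (hSg ξ hξ)]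
    simp
  · exact Finset.sum_eq_zero fun ξ _ => if_neg (Set.notMem_empty ξ)
  · intro F T _ hF hl
    refine (hsum F hF).trans (Finset.sum_congr rfl fun ξ hξ => ?_)
    rw [hl ξ (hSg ξ hξ)]
    split_ifs <;> simp

/-- The degree of a vector bundle on the reduced closed subsets is additive in the components. -/
theorem exists_degFun (hd : topologicalKrullDim X ≤ 1) {r : ℕ} {E : X.Modules}
    (hE : FlatMod.IsFinLocFreeOfRank r E) :
    ∃ D : Set X → ℤ,
      (∀ (T : Set X) (hT : IsClosed T),
        @Curv2.deg k _ (VecSt.subsch X T hT) ⟨VecSt.subschι X T hT ≫ (X ↘ Spec (CommRingCat.of k))⟩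
          ((Scheme.Modules.pullback (VecSt.subschι X T hT)).obj E) r = D T) ∧
      (∀ Y Z W : Set X, (∀ η ∈ genericPoints X, η ∈ W ↔ η ∈ Y ∧ η ∈ Z) → D W + D (Y ∪ Z) = D Y + D Z) ∧
      D Set.univ = Curv2.deg k X E r ∧ D ∅ = 0 := by
  obtain ⟨D, h1, h2, h3, h4, -⟩ := exists_degFun' (k := k) hd hE
  exact ⟨D, h1, h2, h3, h4⟩

end TFModLib

end
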