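import Groth.Agent.TFModLib.Gen

/-!
# Euler characteristics of the quotients of a modification
-/

set_option autoImplicit false
set_option linter.style.haveILetI false
set_option linter.unusedSectionVars false

universe u

open CategoryTheory CategoryTheory.Limits AlgebraicGeometry TopologicalSpace Opposite
open DevissLib IntMultLib TFQuotLib

noncomputable section

namespace TFModLib

variable {X : Scheme.{u}}

/-- `N` is an extension of the kernel of `πY` by its target. -/
structure IsModif {M GY N : X.Modules} (πY : M ⟶ GY) (a : GY ⟶ N) (b : N ⟶ M) : Prop where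
  mono : Mono a
  comp_ab : a ≫ b = 0
  comp_bπ : b ≫ πY = 0
  exact : ∀ (z : X) w, ((St z).map b).hom w = 0 → ∃ u, ((St z).map a).hom u = w
  range : ∀ (z : X) m, ((St z).map πY).hom m = 0 → ∃ w, ((St z).map b).hom w = m
  coh : Coh.IsCoh N

theorem stalk_comp_zero {A B C : X.Modules} (φ : A ⟶ B) (ψ : B ⟶ C) (h : φ ≫ ψ = 0) (z : X) (v : (St z).obj A) :
    ((St z).map ψ).hom (((St z).map φ).hom v) = 0 := by
  rw [← ModuleCat.comp_apply, ← Functor.map_comp, h, Functor.map_zero]
  rfl

theorem stalk_inj {A B : X.Modules} (φ : A ⟶ B) [Mono φ] (z : X) : Function.Injective ((St z).map φ).hom :=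
  (ModuleCat.mono_iff_injective _).mp inferInstance

theorem stalk_surj {A B : X.Modules} (φ : A ⟶ B) [Epi φ] (z : X) : Function.Surjective ((St z).map φ).hom :=
  (ModuleCat.epi_iff_surjective _).mp inferInstance

theorem shortExact_of_stalk_fun (S : ShortComplex X.Modules) (hf : Mono S.f) (hg : Epi S.g)
    (hx : ∀ (x : X) (w : (St x).obj S.X₂), ((St x).map S.g).hom w = 0 → ∃ v, ((St x).map S.f).hom v = w) :
    S.ShortExact :=
  CurvLib.shortExact_of_stalks S fun x =>
    { exact := (ShortComplex.ShortExact.moduleCat_exact_iff_function_exact _).mpr fun w =>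
        ⟨hx x w, fun ⟨v, hv⟩ => hv ▸ stalk_comp_zero S.f S.g S.zero x v⟩
      mono_f := (ModuleCat.mono_iff_injective _).mpr (stalk_inj S.f x)
      epi_g := (ModuleCat.epi_iff_surjective _).mpr (stalk_surj S.g x) }

variable [AlgebraicGeometry.IsNoetherian X] [IsReduced X] {M GY N : X.Modules} {Y : Set X}
  {πY : M ⟶ GY} {a : GY ⟶ N} {b : N ⟶ M}

/-- The kernel of the projection receives the modification as an epimorphism. -/
theorem IsModif.epi_lift (h : IsModif πY a b) : Epi (kernel.lift πY b h.comp_bπ) := by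
  refine Preadditive.epi_of_cancel_zero _ fun {T} φ hφ => Scheme.Modules.hom_ext _ _ fun U => ?_
  refine ConcreteCategory.hom_ext _ _ fun s => TopCat.Presheaf.section_ext (F := ⟨T.presheaf, T.isSheaf⟩) U _ _ fun x hx => ?_
  refine ((gm_app φ x hx s).symm.trans ?_).trans (map_zero _).symm
  obtain ⟨w, hw⟩ := h.range x (((St x).map (kernel.ι πY)).hom (gm _ x hx s))
    (stalk_comp_zero _ _ (kernel.condition πY) x _)
  have h2 : ((St x).map (kernel.lift πY b h.comp_bπ)).hom w = gm _ x hx s := stalk_inj (kernel.ι πY) x (by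
    rw [← ModuleCat.comp_apply, ← Functor.map_comp, kernel.lift_ι, hw])
  rw [← h2]
  exact stalk_comp_zero _ _ hφ x w

theorem IsModif.shortExact (h : IsModif πY a b) :
    (ShortComplex.mk a (kernel.lift πY b h.comp_bπ)
      (by rw [← cancel_mono (kernel.ι πY), Category.assoc, kernel.lift_ι, h.comp_ab, zero_comp])).ShortExact := by
  haveI := h.mono
  haveI := h.epi_lift
  refine shortExact_of_stalk_fun _ inferInstance inferInstance fun z w hw => h.exact z w ?_
  have : ((St z).map (kernel.lift πY b h.comp_bπ ≫ kernel.ι πY)).hom w = 0 := by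
    rw [Functor.map_comp, ModuleCat.comp_apply]
    exact (congrArg ((St z).map (kernel.ι πY)).hom hw).trans (map_zero _)
  rwa [kernel.lift_ι] at this

variable (hM : TFOne.IsTF1 X M) (hGY : TFOne.IsQuotOn X M Y GY πY) (h : IsModif πY a b)

include hM hGY h in
theorem IsModif.isTF1 : TFOne.IsTF1 X N := by
  classical
  haveI := hM.1.1
  haveI := hGY.1
  haveI := h.mono
  refine ⟨h.coh, fun x => ⟨fun r hr w₁ w₂ hw => ?_⟩, fun η hη => ?_⟩
  · suffices key : ∀ w : (St x).obj N, r • w = 0 → w = 0 from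
      sub_eq_zero.mp (key _ ((smul_sub r _ _).trans (sub_eq_zero.mpr hw)))
    intro w hw0
    haveI : Module.IsTorsionFree (X.presheaf.stalk x) ((St x).obj M) := hM.2.1 x
    haveI : Module.IsTorsionFree (X.presheaf.stalk x) ((St x).obj GY) := hGY.2.2.1 x
    have h1 : ((St x).map b).hom w = 0 := (hr.isSMulRegular (M := (St x).obj M)).right_eq_zero_of_smul
      (by rw [← map_smul, hw0, map_zero])
    obtain ⟨v, rfl⟩ := h.exact x w h1
    have h2 : r • v = 0 := stalk_inj a x (by rw [map_smul, hw0, map_zero])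
    rw [(hr.isSMulRegular (M := (St x).obj GY)).right_eq_zero_of_smul h2, map_zero]
  · have e := len_add h.shortExact η
    have e2 : len M η = len (kernel πY) η + len GY η :=
      len_add (S := ShortComplex.mk (kernel.ι πY) πY (kernel.condition πY))
        { exact := ShortComplex.exact_of_f_is_kernel _ (kernelIsKernel πY) } η
    have e3 : len N η = 1 := by
      rw [← len_rkOne hM hη, e2, add_comm]
      exact e
    letI := (isField_stalk_generic hη).toField
    haveI : IsSimpleModule (X.presheaf.stalk η) ((St η).obj N) := Module.length_eq_one_iff.mp e3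
    haveI := IsSimpleModule.nontrivial (X.presheaf.stalk η) ((St η).obj N)
    obtain ⟨v, hv⟩ := exists_ne (0 : (St η).obj N)
    exact ⟨(LinearEquiv.ofBijective (LinearMap.toSpanSingleton (X.presheaf.stalk η) ((St η).obj N) v)
      ⟨smul_left_injective _ hv, IsSimpleModule.toSpanSingleton_surjective _ hv⟩).symm⟩

variable {k : Type u} [Field k] [X.Over (Spec (CommRingCat.of k))] [IsProper (X ↘ Spec (CommRingCat.of k))]

include hM hGY h in
theorem IsModif.euler_eq : Curv2.euler k X N = Curv2.euler k X M := by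
  haveI := hGY.1
  have hK : Coh.IsCoh (kernel πY) := QCohLib.isCoh_kernel πY hM.1 hGY.2.1.1
  have a1 := CurvLib.euler_add_of_isCoh h.shortExact (k := k) hGY.2.1 h.coh hK
  have a2 := CurvLib.euler_add_of_isCoh (k := k)
    (S := ShortComplex.mk (kernel.ι πY) πY (kernel.condition πY))
    { exact := ShortComplex.exact_of_f_is_kernel _ (kernelIsKernel πY) } hK hM.1 hGY.2.1
  simp only at a1 a2
  omega

include hM hGY h in
/-- The fundamental comparison. -/
theorem IsModif.compare (hd : topologicalKrullDim X ≤ 1) {Z W V : Set X} (hWY : W ⊆ Y)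
    (hW : ∀ η ∈ genericPoints X, η ∈ W ↔ η ∈ Y ∧ η ∈ Z)
    {GZ1 : X.Modules} {π1 : N ⟶ GZ1} (hGZ1 : TFOne.IsQuotOn X N Z GZ1 π1)
    {GW GU : X.Modules} {πW : M ⟶ GW} {πU : M ⟶ GU}
    (hGW : TFOne.IsQuotOn X M W GW πW) (hGU : TFOne.IsQuotOn X M (Y ∪ Z) GU πU) :
    (Curv2.euler k X GW + Curv2.euler k X GU ≤ Curv2.euler k X GZ1 + Curv2.euler k X GY) ∧
    ((∀ η ∈ genericPoints X, η ∈ Y ∪ Z) →
      Curv2.euler k X GW + Curv2.euler k X GU = Curv2.euler k X GZ1 + Curv2.euler k X GY) ∧
    (GDense V → (∀ η ∈ genericPoints X, η ∈ V ↔ η ∈ Z ∧ η ∉ Y) →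
      ∀ {G4 : X.Modules} {π4 : N ⟶ G4}, TFOne.IsQuotOn X N V G4 π4 →
        Curv2.euler k X G4 = Curv2.euler k X GU - Curv2.euler k X GY) := by
  classical
  haveI := hM.1.1
  haveI := hGY.1
  haveI := hGU.1
  haveI := hGZ1.1
  haveI := hGW.1
  haveI := h.mono
  have hN := h.isTF1 hM hGY
  haveI := hN.1.1
  haveI := hGY.2.1.1
  haveI := hGU.2.1.1
  have hsub : ∀ {G : X.Modules} {η : X}, η ∉ CohB1.support G → Subsingleton ((St η).obj G) :=
    fun {G η} hh => not_not.mp hh
  obtain ⟨rY, hrY⟩ := exists_factor hM hGU hGY Set.subset_union_left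
  obtain ⟨sW, hsW⟩ := exists_factor hM hGY hGW hWY
  haveI : Epi rY := by
    haveI : Epi (πU ≫ rY) := hrY ▸ hGY.1
    exact epi_of_epi πU rY
  haveI : Epi sW := by
    haveI : Epi (πY ≫ sW) := hsW ▸ hGW.1
    exact epi_of_epi πY sW
  -- the map from the quotient on `W`
  have hsW0 : kernel.ι sW ≫ a ≫ π1 = 0 := by
    refine eq_zero_of_generic _ (QCohLib.isCoh_kernel sW hGY.2.1 hGW.2.1.1).1 hGZ1.2.1 hGZ1.2.2.1 fun η hη => ?_
    ext v
    rw [Functor.map_comp, ModuleCat.comp_apply]
    obtain ⟨m, hm⟩ := stalk_surj πY η (((St η).map (kernel.ι sW)).hom v)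
    by_cases hηZ : η ∈ Z
    · by_cases hηY : η ∈ Y
      · have : ((St η).map πW).hom m = 0 := by
          rw [← hsW, Functor.map_comp, ModuleCat.comp_apply, hm]
          exact stalk_comp_zero _ _ (kernel.condition sW) η v
        rw [injective_quot hM hGW hη ((hW η hη).mpr ⟨hηY, hηZ⟩) (this.trans (map_zero _).symm), map_zero] at hm
        rw [← hm, map_zero]
        rfl
      · haveI := hsub (G := GY) (η := η) (hGY.2.2.2 ▸ hηY)
        rw [Subsingleton.elim (((St η).map (kernel.ι sW)).hom v) 0, map_zero]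
        rfl
    · haveI := hsub (G := GZ1) (η := η) (hGZ1.2.2.2 ▸ hηZ)
      exact Subsingleton.elim _ _
  let g : GW ⟶ GZ1 := (Abelian.epiIsCokernelOfKernel _ (kernelIsKernel sW)).desc (CokernelCofork.ofπ (a ≫ π1) hsW0)
  have hg : sW ≫ g = a ≫ π1 :=
    (Abelian.epiIsCokernelOfKernel _ (kernelIsKernel sW)).fac (CokernelCofork.ofπ (a ≫ π1) hsW0) WalkingParallelPair.one
  haveI : Mono g := mono_of_generic g hGW.2.1 hGW.2.2.1 hGZ1.2.1.1 fun η hη u v huv => by
    by_cases hηW : η ∈ W
    · obtain ⟨u, rfl⟩ := stalk_surj sW η u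
      obtain ⟨v, rfl⟩ := stalk_surj sW η v
      refine congrArg _ (stalk_inj a η (injective_quot hN hGZ1 hη ((hW η hη).mp hηW).2 ?_))
      rw [← ModuleCat.comp_apply, ← ModuleCat.comp_apply, ← Functor.map_comp, ← hg, Functor.map_comp,
        ModuleCat.comp_apply, ModuleCat.comp_apply]
      exact huv
    · haveI := hsub (G := GW) (η := η) (hGW.2.2.2 ▸ hηW)
      exact Subsingleton.elim _ _
  -- the map to the kernel of `rY`
  have hK : Coh.IsCoh (kernel rY) := QCohLib.isCoh_kernel rY hGU.2.1 hGY.2.1.1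
  have hKtf : TorSh.IsTorsionFree (kernel rY) := torsionFree_sub (kernel.ι rY) hGU.2.2.1
  let β : N ⟶ kernel rY := kernel.lift rY (b ≫ πU) (by rw [Category.assoc, hrY, h.comp_bπ])
  have hβ : β ≫ kernel.ι rY = b ≫ πU := kernel.lift_ι _ _ _
  have hβs : ∀ x, Function.Surjective ((St x).map β).hom := fun x v => by
    obtain ⟨m, hm⟩ := stalk_surj πU x (((St x).map (kernel.ι rY)).hom v)
    obtain ⟨w, hw⟩ := h.range x m (by
      rw [← hrY, Functor.map_comp, ModuleCat.comp_apply, hm]
      exact stalk_comp_zero _ _ (kernel.condition rY) x v)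
    refine ⟨w, stalk_inj (kernel.ι rY) x ?_⟩
    rw [← ModuleCat.comp_apply, ← Functor.map_comp, hβ, Functor.map_comp, ModuleCat.comp_apply, hw, hm]
  haveI : Epi β := Preadditive.epi_of_cancel_zero _ fun {T} φ hφ => Scheme.Modules.hom_ext _ _ fun U =>
    ConcreteCategory.hom_ext _ _ fun s => TopCat.Presheaf.section_ext (F := ⟨T.presheaf, T.isSheaf⟩) U _ _
      fun x hx => by
        refine ((gm_app φ x hx s).symm.trans ?_).trans (map_zero _).symm
        obtain ⟨w, hw⟩ := hβs x (gm _ x hx s)
        rw [← hw]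
        exact stalk_comp_zero _ _ hφ x w
  have eK : ∀ η, len GU η = len (kernel rY) η + len GY η := fun η =>
    len_add (S := ShortComplex.mk (kernel.ι rY) rY (kernel.condition rY))
      { exact := ShortComplex.exact_of_f_is_kernel _ (kernelIsKernel rY) } η
  have hKz : ∀ η ∈ genericPoints X, ¬ (η ∈ Z ∧ η ∉ Y) → η ∉ CohB1.support (kernel rY) := fun η hη hn hs => by
    have e := eK η
    rw [len_quot hM hGU hη, len_quot hM hGY hη] at e
    refine hs (Module.length_eq_zero_iff.mp (show len (kernel rY) η = 0 from ?_))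
    generalize len (kernel rY) η = l at e
    by_cases h1 : η ∈ Y <;> by_cases h2 : η ∈ Z <;> simp [h1, h2] at e hn ⊢ <;>
      first | exact (ENat.add_right_injective_of_ne_top ENat.one_ne_top
        ((add_comm _ _).trans (e.symm.trans (add_zero _).symm))) | exact e.symm | exact e
  have hβ0 : kernel.ι π1 ≫ β = 0 := by
    refine eq_zero_of_generic _ (QCohLib.isCoh_kernel π1 hN.1 hGZ1.2.1.1).1 hK hKtf fun η hη => ?_
    ext v
    rw [Functor.map_comp, ModuleCat.comp_apply]
    by_cases hηZ : η ∈ Z ∧ η ∉ Y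
    · rw [injective_quot hN hGZ1 hη hηZ.1 ((stalk_comp_zero _ _ (kernel.condition π1) η v).trans (map_zero _).symm),
        map_zero]
      rfl
    · haveI := hsub (hKz η hη hηZ)
      exact Subsingleton.elim _ _
  let s : GZ1 ⟶ kernel rY := (Abelian.epiIsCokernelOfKernel _ (kernelIsKernel π1)).desc (CokernelCofork.ofπ β hβ0)
  have hs : π1 ≫ s = β :=
    (Abelian.epiIsCokernelOfKernel _ (kernelIsKernel π1)).fac (CokernelCofork.ofπ β hβ0) WalkingParallelPair.one
  haveI : Epi s := by
    haveI : Epi (π1 ≫ s) := hs ▸ ‹Epi β›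
    exact epi_of_epi π1 s
  have hgs : g ≫ s = 0 := by
    rw [← cancel_epi sW, ← Category.assoc, hg, Category.assoc, hs, comp_zero, ← cancel_mono (kernel.ι rY),
      Category.assoc, hβ, ← Category.assoc, h.comp_ab, zero_comp, zero_comp]
  have aU := CurvLib.euler_add_of_isCoh (k := k) (S := ShortComplex.mk (kernel.ι rY) rY (kernel.condition rY))
    { exact := ShortComplex.exact_of_f_is_kernel _ (kernelIsKernel rY) } hK hGU.2.1 hGY.2.1
  simp only at aU
  refine ⟨?_, fun hU => ?_, fun hV hVm G4 π4 hG4 => ?_⟩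
  · obtain ⟨R, hR, eR, aR⟩ := defect (k := k) g s hgs hGW.2.1 hGZ1.2.1 hK
    have hR0 : ∀ η ∈ genericPoints X, η ∉ CohB1.support R := fun η hη hRs => by
      have e1 := eR η
      have e2 := eK η
      rw [len_quot hN hGZ1 hη, len_quot hM hGW hη] at e1
      rw [len_quot hM hGU hη, len_quot hM hGY hη] at e2
      refine hRs (Module.length_eq_zero_iff.mp (show len R η = 0 from arith _ _ _ (hW η hη) _ ?_))
      simp only [Set.mem_union] at e2
      rw [e2, e1]
      ring
    have := euler_nonneg_of_generic (k := k) hd hR hR0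
    omega
  · have hiso : Mono πU := mono_of_generic πU hM.1 hM.2.1 hGU.2.1.1 fun η hη => injective_quot hM hGU hη (hU η hη)
    have hS : (ShortComplex.mk g s hgs).ShortExact := by
      refine shortExact_of_stalk_fun _ inferInstance inferInstance fun z w hw => ?_
      obtain ⟨n, rfl⟩ := stalk_surj π1 z w
      have h1 : ((St z).map b).hom n = 0 := by
        refine stalk_inj πU z ?_
        rw [map_zero, ← ModuleCat.comp_apply, ← Functor.map_comp, ← hβ, ← hs, Functor.map_comp, Functor.map_comp,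
          ModuleCat.comp_apply, ModuleCat.comp_apply]
        exact (congrArg ((St z).map (kernel.ι rY)).hom hw).trans (map_zero _)
      obtain ⟨v, rfl⟩ := h.exact z n h1
      refine ⟨((St z).map sW).hom v, ?_⟩
      show ((St z).map g).hom _ = _
      rw [← ModuleCat.comp_apply, ← Functor.map_comp, hg, Functor.map_comp, ModuleCat.comp_apply]
    have a1 := CurvLib.euler_add_of_isCoh hS (k := k) hGW.2.1 hGZ1.2.1 hK
    simp only at a1
    omega
  · have hq : TFOne.IsQuotOn X N V (kernel rY) β := isQuotOn_of β hK hKtf hV fun η hη => by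
      refine ⟨fun hs' => (hVm η hη).mpr (by_contra fun hn => hKz η hη hn hs'), fun hv hz => ?_⟩
      obtain ⟨hz1, hz2⟩ := (hVm η hη).mp hv
      have e := eK η
      rw [len_quot hM hGU hη, len_quot hM hGY hη, if_pos (Set.mem_union_right Y hz1), if_neg hz2,
        show len (kernel rY) η = 0 from Module.length_eq_zero_iff.mpr hz, add_zero] at e
      exact one_ne_zero e
    obtain ⟨e, -⟩ := iso_of_quot hN hq hG4
    have a5 := CurvLib.euler_congr (k := k) e
    omega

end TFModLib

end
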