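import Groth.Agent.TFModLib.Ext
import Groth.Agent.TFModLib.Num
import Groth.Agent.TFModLib.Degree

/-!
# Numbers attached to a modification
-/

set_option autoImplicit false
set_option linter.style.haveILetI false
set_option linter.unusedSectionVars false

universe u

open CategoryTheory CategoryTheory.Limits AlgebraicGeometry TopologicalSpace Opposite
open DevissLib IntMultLib TFQuotLib

noncomputable section

namespace TFModLib

theorem exists_beta {k : Type u} [Field k] {X : Scheme.{u}} [X.Over (Spec (CommRingCat.of k))]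
    [IsProper (X ↘ Spec (CommRingCat.of k))] [IsReduced X] (hd : topologicalKrullDim X ≤ 1) {r : ℕ}
    {E : X.Modules} (hE : FlatMod.IsFinLocFreeOfRank r E) :
    ∃ D : Set X → ℤ,
      (∀ (T : Set X) (hT : IsClosed T) (G : X.Modules),
        TFOne.rBeta X k (X ↘ Spec (CommRingCat.of k)) T hT E r G = r * Curv2.euler k X G + D T) ∧
      (∀ Y Z W : Set X, (∀ η ∈ genericPoints X, η ∈ W ↔ η ∈ Y ∧ η ∈ Z) → D W + D (Y ∪ Z) = D Y + D Z) ∧
      D Set.univ = Curv2.deg k X E r ∧ D ∅ = 0 := by
  obtain ⟨D, h1, h2, h3, h4⟩ := exists_degFun (k := k) hd hE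
  exact ⟨D, fun T hT G => congrArg (fun t : ℤ => (r : ℤ) * Curv2.euler k X G + t) (h1 T hT), h2, h3, h4⟩

theorem exists_isModif {R : Type u} [CommRing R] [IsDomain R] [IsDiscreteValuationRing R] {X : Scheme.{u}}
    (f : X ⟶ Spec (CommRingCat.of R)) [IsProper f] {Xs : Scheme.{u}}
    [Xs.Over (Spec (CommRingCat.of (IsLocalRing.ResidueField R)))] (i : Xs ⟶ X)
    (hsq : IsPullback i (Xs ↘ Spec (CommRingCat.of (IsLocalRing.ResidueField R))) f
      (Spec.map (CommRingCat.ofHom (IsLocalRing.residue R))))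
    {I : X.Modules} (hIc : Coh.IsCoh I) (hIf : FlatMod.IsFlatOver f I) {Y : Set Xs} {GY : Xs.Modules}
    {πY : (Scheme.Modules.pullback i).obj I ⟶ GY}
    (hGY : TFOne.IsQuotOn Xs ((Scheme.Modules.pullback i).obj I) Y GY πY) {IY : X.Modules}
    (hIY : IY = kernel ((Scheme.Modules.pullbackPushforwardAdjunction i).unit.app I ≫
      (Scheme.Modules.pushforward i).map πY)) :
    IsProper (Xs ↘ Spec (CommRingCat.of (IsLocalRing.ResidueField R))) ∧
      ∃ a b, IsModif (M := (Scheme.Modules.pullback i).obj I) (N := (Scheme.Modules.pullback i).obj IY) πY a b := by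
  haveI := hGY.1
  refine ⟨MorphismProperty.of_isPullback hsq ‹_›, ?_⟩
  obtain ⟨a, b, h1, h2, h3, h4, h5, h6⟩ := exists_extension f i _ hsq hIc hIf hGY.2.1 πY hIY
  exact ⟨a, b, h1, h2, h3, h4, h5, h6⟩

theorem euler_eq_zero_of_support {k : Type u} [Field k] {X : Scheme.{u}} [X.Over (Spec (CommRingCat.of k))]
    [IsProper (X ↘ Spec (CommRingCat.of k))] {G : X.Modules} (hG : Coh.IsCoh G)
    (h : CohB1.support G = ∅) : Curv2.euler k X G = 0 := by
  have hz := DevissLib.isZero_of_support_empty h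
  have a := CurvLib.euler_add_of_isCoh (k := k) (S := ShortComplex.mk (𝟙 G) (0 : G ⟶ G) (by simp))
    { exact := ShortComplex.exact_of_isZero_X₂ _ hz
      mono_f := inferInstance
      epi_g := ⟨fun u v _ => hz.eq_of_src u v⟩ } hG hG hG
  simp only at a
  omega

/-- The value on the whole curve. -/
theorem beta_univ {k : Type u} [Field k] {X : Scheme.{u}} [X.Over (Spec (CommRingCat.of k))]
    [IsProper (X ↘ Spec (CommRingCat.of k))] [AlgebraicGeometry.IsNoetherian X] [IsReduced X]
    {M : X.Modules} (hM : TFOne.IsTF1 X M) {G : X.Modules} {π : M ⟶ G}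
    (hG : TFOne.IsQuotOn X M Set.univ G π) : Curv2.euler k X G = Curv2.euler k X M := by
  obtain ⟨e, -⟩ := iso_of_quot hM (isQuotOn_univ hM) hG
  exact (CurvLib.euler_congr e).symm

end TFModLib

end
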