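import Groth.Agent.TFModLib.Sub
import Groth.Agent.TFModLib.Num

/-!
# Moving torsion free modules to a subcurve and back
-/

set_option autoImplicit false
set_option linter.style.haveILetI false
set_option linter.unusedSectionVars false

universe u

open CategoryTheory CategoryTheory.Limits AlgebraicGeometry TopologicalSpace Opposite
open DevissLib IntMultLib TFQuotLib
open scoped TensorProduct

noncomputable section

namespace TFModLib

theorem res_smul {X Z : Scheme.{u}} (i : Z ⟶ X) (N : X.Modules) (z : Z) (r : X.presheaf.stalk (i z))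
    (m : (St (i z)).obj N) : res i N z (r • m) = i.stalkMap z r • res i N z m := by
  let := (i.stalkMap z).hom.toAlgebra
  unfold res
  refine Eq.trans (congrArg ((KFlatLib.stalkPullIso i z).inv.app N).hom
    (TFQuotLib.one_tmul_smul (B := Z.presheaf.stalk z) (M := (St (i z)).obj N) r m)) ?_
  exact map_smul ((KFlatLib.stalkPullIso i z).inv.app N).hom (i.stalkMap z r) _

variable {X Z : Scheme.{u}} (i : Z ⟶ X) [IsClosedImmersion i]

theorem res_bijective {N : X.Modules} (hk : ClSub.KilledByIdeal i.ker N) (z : Z) : Function.Bijective (res i N z) :=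
  DevissLib.bijective_stalk_puSec i hk z

/-- The semilinear identification of stalks for a killed module. -/
def resₛₗ (N : X.Modules) (z : Z) :
    (St (i z)).obj N →ₛₗ[(i.stalkMap z).hom] (St z).obj ((Scheme.Modules.pullback i).obj N) where
  toFun := res i N z
  map_add' := res_add i N z
  map_smul' := res_smul i N z

theorem len_pull {N : X.Modules} (hk : ClSub.KilledByIdeal i.ker N) (z : Z) :
    len ((Scheme.Modules.pullback i).obj N) z = len N (i z) := by
  haveI : RingHomSurjective (i.stalkMap z).hom := ⟨i.stalkMap_surjective z⟩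
  refine WithBot.coe_injective ?_
  show (Module.length (Z.presheaf.stalk z) _ : WithBot ℕ∞) = (Module.length (X.presheaf.stalk (i z)) _ : WithBot ℕ∞)
  rw [Module.coe_length, Module.coe_length]
  exact (Order.krullDim_eq_of_orderIso
    (Submodule.orderIsoMapComapOfBijective (resₛₗ i N z) (res_bijective i hk z))).symm

theorem len_push (G : Z.Modules) (z : Z) : len ((Coh.push i).obj G) (i z) = len G z :=
  (len_pull i (CycKSuppLib.killed_push i G) z).symm.trans (len_congr (CycKSuppLib.pullPushIso i G) z)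

theorem asso_push {G : Z.Modules} {z : Z} (h : DevissLib.Asso G z) : DevissLib.Asso ((Coh.push i).obj G) (i z) := by
  obtain ⟨e, hb, h0, hs⟩ := exists_stalkEquiv i G z
  obtain ⟨v, hv, hk⟩ := h
  obtain ⟨a, rfl⟩ := hb.2 v
  exact ⟨a, fun ha => hv (ha ▸ h0), fun r hr => hb.1 ((hs r a).trans ((hk _
    ((IsLocalRing.mem_maximalIdeal _).mpr fun hu => (IsLocalRing.mem_maximalIdeal _).mp hr
      (isUnit_of_map_unit (i.stalkMap z).hom r hu))).trans h0.symm))⟩

theorem gdense_image (hgen : ∀ z, z ∈ genericPoints Z → i z ∈ genericPoints X) {T : Set Z} (hT : GDense T) :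
    GDense (i '' T) :=
  ⟨i.isClosedEmbedding.isClosedMap _ hT.1, fun x ⟨z, hz, hx⟩ =>
    let ⟨η, h1, h2, h3⟩ := hT.2 z hz
    ⟨i η, hgen η h1, ⟨η, h2, rfl⟩, hx ▸ h3.map i.continuous⟩⟩

variable [AlgebraicGeometry.IsNoetherian X] [IsReduced X]

theorem eq_zero_of_germs {G : X.Modules} (hG : Coh.IsCoh G) (htf : TorSh.IsTorsionFree G) {V : X.Opens}
    (hV : IsAffineOpen V) (s : Γ(G, V))
    (h : ∀ η ∈ genericPoints X, ∀ hη : η ∈ V, gm G η hη s = 0) : s = 0 := by
  refine TopCat.Presheaf.section_ext (F := ⟨G.presheaf, G.isSheaf⟩) V _ _ fun y hy => ?_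
  refine Eq.trans ?_ (map_zero _).symm
  by_contra hne
  obtain ⟨z, hz, c, hc0, hck⟩ := PrimDecLib.exists_killed_specializes hG hV hy s hne
  refine hc0 ?_
  rw [gm_smul, h z (asso_generic htf (𝟙 G) ⟨gm G z hz (c • s), hc0, hck⟩) hz, smul_zero]

theorem killed_of_support {G : X.Modules} (hG : Coh.IsCoh G) (htf : TorSh.IsTorsionFree G)
    (h : CohB1.support G ⊆ Set.range ⇑i) : ClSub.KilledByIdeal i.ker G := fun U a ha m => by
  refine eq_zero_of_germs hG htf U.2 _ fun η hη hηU => ?_
  by_cases hr : η ∈ Set.range ⇑i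
  · obtain ⟨z, rfl⟩ := hr
    refine (gm_smul G (i z) hηU a m).trans ?_
    have h0 : i.stalkMap z (X.presheaf.germ U.1 (i z) hηU a) = 0 := by
      rw [Scheme.Hom.germ_stalkMap_apply]
      rw [Scheme.Hom.ker_apply, RingHom.mem_ker] at ha
      exact (congrArg _ ha).trans (map_zero _)
    letI := (isField_stalk_generic hη).toField
    have hg : X.presheaf.germ U.1 (i z) hηU a = 0 := (map_eq_zero_iff _ (RingHom.injective (i.stalkMap z).hom)).mp h0
    rw [hg, zero_smul]
  · exact @Subsingleton.elim _ (not_not.mp fun hh => hr (h hh)) _ _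

theorem isTF1_pull [IsReduced Z] {M GY : X.Modules} {Y : Set X} {πY : M ⟶ GY} (hM : TFOne.IsTF1 X M)
    (hGY : TFOne.IsQuotOn X M Y GY πY) (hr : Set.range ⇑i = Y)
    (hgen : ∀ z, z ∈ genericPoints Z → i z ∈ genericPoints X) :
    TFOne.IsTF1 Z ((Scheme.Modules.pullback i).obj GY) := by
  classical
  have hk := killed_of_support i hGY.2.1 hGY.2.2.1 (hGY.2.2.2.trans hr.symm).le
  haveI : IsLocallyNoetherian Z := LocallyOfFiniteType.isLocallyNoetherian i
  haveI : CompactSpace Z := QuasiCompact.compactSpace_of_compactSpace i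
  haveI : AlgebraicGeometry.IsNoetherian Z := {}
  have hc := CycKSuppLib.isCoh_pull i hGY.2.1 (CycKSuppLib.kil_of_killed i hk)
  refine ⟨hc, torsionFree_of_asso_generic hc fun z hz => ?_, fun z hz => ?_⟩
  · have h1 := (asso_push i hz).of_mono
      (CycKSuppLib.pushPullIso i (CycKSuppLib.kil_of_killed i hk)).hom
    exact generic_of_map i (asso_generic hGY.2.2.1 (𝟙 GY) h1)
  · have hl : len ((Scheme.Modules.pullback i).obj GY) z = 1 := by
      rw [len_pull i hk z, len_quot hM hGY (hgen z hz), if_pos (hr.le ⟨z, rfl⟩)]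
    letI := (isField_stalk_generic hz).toField
    haveI : IsSimpleModule (Z.presheaf.stalk z) ((St z).obj ((Scheme.Modules.pullback i).obj GY)) :=
      Module.length_eq_one_iff.mp hl
    haveI := IsSimpleModule.nontrivial (Z.presheaf.stalk z) ((St z).obj ((Scheme.Modules.pullback i).obj GY))
    obtain ⟨v, hv⟩ := exists_ne (0 : (St z).obj ((Scheme.Modules.pullback i).obj GY))
    exact ⟨(LinearEquiv.ofBijective (LinearMap.toSpanSingleton (Z.presheaf.stalk z) _ v)
      ⟨smul_left_injective _ hv, IsSimpleModule.toSpanSingleton_surjective _ hv⟩).symm⟩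

/-- A quotient on the subcurve gives one upstairs. -/
theorem isQuotOn_push {M GY : X.Modules} {Y : Set X} {πY : M ⟶ GY} (hGY : TFOne.IsQuotOn X M Y GY πY)
    (hr : Set.range ⇑i = Y) (hgen : ∀ z, z ∈ genericPoints Z → i z ∈ genericPoints X) [IsReduced Z]
    {T : Set Z} (hT : GDense T) {G : Z.Modules} {π : (Scheme.Modules.pullback i).obj GY ⟶ G}
    (hG : TFOne.IsQuotOn Z ((Scheme.Modules.pullback i).obj GY) T G π) :
    ∃ π' : M ⟶ (Coh.push i).obj G, TFOne.IsQuotOn X M (i '' T) ((Coh.push i).obj G) π' := by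
  haveI := hGY.1
  haveI := hG.1
  have hk := CycKSuppLib.kil_of_killed i (killed_of_support i hGY.2.1 hGY.2.2.1 (hGY.2.2.2.trans hr.symm).le)
  haveI := ProjClosedImmLib.preservesHomology_push i
  let π' : M ⟶ (Coh.push i).obj G := (πY ≫ (CycKSuppLib.pushPullIso i hk).inv) ≫ (Coh.push i).map π
  haveI : Epi ((Coh.push i).map π) :=
    inferInstanceAs (Epi ((Scheme.Modules.pushforward i).map π))
  haveI : Epi π' := inferInstance
  have hc := QCohLib.isCoh_push_finite i G hG.2.1
  refine ⟨π', isQuotOn_of π' hc (torsionFree_of_asso_generic hc fun η hη =>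
    asso_push_generic i hgen hG.2.2.1 hη) (gdense_image i hgen hT) fun η hη => ⟨fun hs => ?_, ?_⟩⟩
  · obtain ⟨z, rfl⟩ := DevissLib.support_push_subset i G hs
    refine ⟨z, hG.2.2.2 ▸ (show z ∈ CohB1.support G from fun hz => hs (Module.length_eq_zero_iff.mp
      (show len ((Coh.push i).obj G) (i z) = 0 from (len_push i G z).trans (Module.length_eq_zero_iff.mpr hz)))), rfl⟩
  · rintro ⟨z, hz, rfl⟩
    exact TFQuotLib.mem_support_push i (hG.2.2.2 ▸ hz)

end TFModLib

end
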