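import Groth.Agent.TFQuotLib.Decomp
import Groth.Agent.PrimDecLib.Basic

/-!
# Existence and uniqueness of torsion free quotients on subcurves
-/

set_option autoImplicit false
set_option linter.style.haveILetI false
set_option linter.unusedSectionVars false

universe u

open CategoryTheory CategoryTheory.Limits AlgebraicGeometry TopologicalSpace Opposite
open DevissLib IntMultLib TFQuotLib

noncomputable section

namespace TFModLib

variable {X : Scheme.{u}}

/-- A closed set in which the generic points of the scheme are dense. -/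
def GDense (T : Set X) : Prop := IsClosed T ∧ ∀ x ∈ T, ∃ η ∈ genericPoints X, η ∈ T ∧ η ⤳ x

theorem gdense_univ : GDense (Set.univ : Set X) := by
  refine ⟨isClosed_univ, fun x _ => ?_⟩
  obtain ⟨C, hC, hxC⟩ := exists_mem_irreducibleComponents_subset_of_isIrreducible _
    (isIrreducible_singleton (x := x)).closure
  have hg := hC.1.isGenericPoint_genericPoint (isClosed_of_mem_irreducibleComponents C hC)
  refine ⟨hC.1.genericPoint, ?_, trivial, hg.specializes (hxC (subset_closure rfl))⟩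
  show closure {hC.1.genericPoint} ∈ irreducibleComponents X
  rw [hg.def]
  exact hC

theorem GDense.union {A B : Set X} (hA : GDense A) (hB : GDense B) : GDense (A ∪ B) :=
  ⟨hA.1.union hB.1, fun x hx => hx.elim
    (fun h => let ⟨η, h1, h2, h3⟩ := hA.2 x h; ⟨η, h1, Or.inl h2, h3⟩)
    (fun h => let ⟨η, h1, h2, h3⟩ := hB.2 x h; ⟨η, h1, Or.inr h2, h3⟩)⟩

theorem GDense.subset_iff {A B : Set X} (hA : GDense A) (hB : IsClosed B)
    (h : ∀ η ∈ genericPoints X, η ∈ A → η ∈ B) : A ⊆ B := fun x hx => by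
  obtain ⟨η, h1, h2, h3⟩ := hA.2 x hx
  exact h3.mem_closed hB (h η h1 h2)

theorem gdense_sUnion {S : Set (Set X)} (hS : S ⊆ irreducibleComponents X) (hc : IsClosed (⋃₀ S)) :
    GDense (⋃₀ S) := by
  refine ⟨hc, fun x ⟨C, hCS, hxC⟩ => ?_⟩
  have hC := hS hCS
  have hg := hC.1.isGenericPoint_genericPoint (isClosed_of_mem_irreducibleComponents C hC)
  refine ⟨hC.1.genericPoint, ?_, ⟨C, hCS, hg.mem⟩, hg.specializes hxC⟩
  show closure {hC.1.genericPoint} ∈ irreducibleComponents X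
  rw [hg.def]
  exact hC

theorem gdense_subcurve {T : Set X} (hT : VecSt.IsSubcurve X T) (hc : IsClosed T) : GDense T := by
  obtain ⟨S, hS, -, rfl⟩ := hT
  exact gdense_sUnion hS hc

theorem nonempty_subcurve {T : Set X} (hT : VecSt.IsSubcurve X T) : T.Nonempty := by
  obtain ⟨S, hS, ⟨C, hC⟩, rfl⟩ := hT
  obtain ⟨x, hx⟩ := (hS hC).1.1
  exact ⟨x, C, hC, hx⟩

theorem isSubcurve_of_gdense {T : Set X} (hT : GDense T) (hne : T.Nonempty) : VecSt.IsSubcurve X T := by
  refine ⟨{C | C ∈ irreducibleComponents X ∧ C ⊆ T}, fun C h => h.1, ?_, Set.Subset.antisymm (fun x hx => ?_)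
    (Set.sUnion_subset fun C h => h.2)⟩
  · obtain ⟨x, hx⟩ := hne
    obtain ⟨η, hη, hηT, -⟩ := hT.2 x hx
    exact ⟨closure {η}, hη, closure_minimal (Set.singleton_subset_iff.mpr hηT) hT.1⟩
  · obtain ⟨η, hη, hηT, hs⟩ := hT.2 x hx
    exact ⟨closure {η}, ⟨hη, closure_minimal (Set.singleton_subset_iff.mpr hηT) hT.1⟩,
      specializes_iff_mem_closure.mp hs⟩

theorem mem_sUnion_comp {p : Set X → Prop} {η : X} (hη : η ∈ genericPoints X) :
    η ∈ ⋃₀ {C | C ∈ irreducibleComponents X ∧ p C} ↔ p (closure {η}) := by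
  refine ⟨?_, fun h => ⟨_, ⟨hη, h⟩, subset_closure rfl⟩⟩
  rintro ⟨C, ⟨hC, hp⟩, hx⟩
  have hsub : closure {η} ⊆ C :=
    closure_minimal (Set.singleton_subset_iff.mpr hx) (isClosed_of_mem_irreducibleComponents C hC)
  rwa [Set.Subset.antisymm hsub ((hη : closure {η} ∈ irreducibleComponents X).2 hC.1 hsub)]

theorem closure_subset_iff {T : Set X} (hT : IsClosed T) {η : X} : closure {η} ⊆ T ↔ η ∈ T :=
  ⟨fun h => h (subset_closure rfl), fun h => closure_minimal (Set.singleton_subset_iff.mpr h) hT⟩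

variable [AlgebraicGeometry.IsNoetherian X] [IsReduced X]

theorem finite_generic : (genericPoints X).Finite := by
  refine Set.Finite.of_finite_image (f := fun η => closure ({η} : Set X))
    (TopologicalSpace.NoetherianSpace.finite_irreducibleComponents.subset ?_) fun a ha b hb h => ?_
  · rintro _ ⟨η, hη, rfl⟩
    exact hη
  · exact eq_of_specializes_generic hb (specializes_iff_mem_closure.mpr (h.ge (subset_closure rfl)))

/-- Recognition of the torsion free quotient on `T`. -/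
theorem isQuotOn_of {M G : X.Modules} (π : M ⟶ G) [Epi π] (hG : Coh.IsCoh G) (htf : TorSh.IsTorsionFree G)
    {T : Set X} (hT : GDense T) (h : ∀ η ∈ genericPoints X, η ∈ CohB1.support G ↔ η ∈ T) :
    TFOne.IsQuotOn X M T G π := by
  refine ⟨inferInstance, hG, htf, Set.Subset.antisymm (fun x hx => ?_) fun x hx => ?_⟩
  · by_contra hxT
    obtain ⟨η, hηV, hη⟩ := exists_asso_mem hG hx ⟨Tᶜ, hT.1.isOpen_compl⟩ hxT
    exact hηV ((h η (asso_generic htf (𝟙 G) hη)).mp hη.mem_support)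
  · obtain ⟨η, hη, hηT, hs⟩ := hT.2 x hx
    exact hs.mem_closed (QCohLib.isClosed_support _ hG.2) ((h η hη).mpr hηT)

theorem mem_support_tf1 {M : X.Modules} (hM : TFOne.IsTF1 X M) {η : X} (hη : η ∈ genericPoints X) :
    η ∈ CohB1.support M := by
  by_contra h
  have := len_rkOne hM hη
  rw [len_eq_zero h] at this
  exact zero_ne_one this

theorem isQuotOn_univ {M : X.Modules} (hM : TFOne.IsTF1 X M) :
    TFOne.IsQuotOn X M Set.univ M (𝟙 M) :=
  isQuotOn_of (𝟙 M) hM.1 hM.2.1 gdense_univ fun _ hη => iff_of_true (mem_support_tf1 hM hη) trivial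

/-- Uniqueness of the quotient. -/
theorem iso_of_quot {M : X.Modules} (hM : TFOne.IsTF1 X M) {T : Set X} {G G' : X.Modules} {π : M ⟶ G}
    {π' : M ⟶ G'} (h : TFOne.IsQuotOn X M T G π) (h' : TFOne.IsQuotOn X M T G' π') :
    ∃ e : G ≅ G', π ≫ e.hom = π' := by
  haveI := h.1
  haveI := h'.1
  obtain ⟨r, hr⟩ := exists_factor hM h h' subset_rfl
  obtain ⟨r', hr'⟩ := exists_factor hM h' h subset_rfl
  refine ⟨⟨r, r', ?_, ?_⟩, hr⟩
  · rw [← cancel_epi π, ← Category.assoc, hr, hr', Category.comp_id]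
  · rw [← cancel_epi π', ← Category.assoc, hr', hr, Category.comp_id]

/-- Existence of the quotient. -/
theorem exists_quot {M : X.Modules} (hM : TFOne.IsTF1 X M) {T : Set X} (hT : GDense T) :
    ∃ (G : X.Modules) (π : M ⟶ G), TFOne.IsQuotOn X M T G π := by
  classical
  haveI := hM.1.1
  let T' : Finset X := finite_generic.toFinset.filter (· ∈ T)
  have hT' : ∀ {η}, η ∈ T' ↔ η ∈ genericPoints X ∧ η ∈ T := fun {η} => by
    rw [Finset.mem_filter, Set.Finite.mem_toFinset]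
  let Q : ∀ x : X, Submodule (X.presheaf.stalk x) ((St x).obj M) := fun _ => ⊥
  have hL : Coh.IsCoh (PrimDecLib.LS M T' Q).toModules := PrimDecLib.isCoh_LS hM.1 T' Q fun x hx r hr => by
    letI := (isField_stalk_generic (hT'.mp hx).1).toField
    refine ⟨1, fun n => (Submodule.mem_bot _).mpr ?_⟩
    have : r = 0 := by_contra fun h => (IsLocalRing.mem_maximalIdeal r).mp hr (Ne.isUnit h)
    rw [pow_one, this, zero_smul]
  let ι := (PrimDecLib.LS M T' Q).ι
  have hG : Coh.IsCoh (cokernel ι) := QCohLib.isCoh_cokernel ι hL.1 hM.1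
  refine ⟨cokernel ι, cokernel.π ι, isQuotOn_of _ hG (fun x => ⟨fun r hr => ?_⟩) hT fun η hη => ⟨fun hs => ?_, fun hηT => ?_⟩⟩
  · suffices key : ∀ a : (St x).obj (cokernel ι), r • a = 0 → a = 0 from fun a₁ a₂ ha =>
      sub_eq_zero.mp (key _ ((smul_sub r _ _).trans (sub_eq_zero.mpr ha)))
    intro a h0
    obtain ⟨b, rfl⟩ := PrimDecLib.cokernel_π_surjective ι x a
    obtain ⟨W, hxW, s₀, rfl⟩ := exists_gm_eq M x b
    obtain ⟨R₀, hxR, g₀, rfl⟩ := X.presheaf.exists_germ_eq (x := x) r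
    obtain ⟨V, hV, hxV, hVW⟩ := TopologicalSpace.Opens.isBasis_iff_nbhd.mp X.isBasis_affineOpens
      (show x ∈ W ⊓ R₀ from ⟨hxW, hxR⟩)
    let g : Γ(X, V) := X.presheaf.map (homOfLE (hVW.trans inf_le_right)).op g₀
    let s : Γ(M, V) := M.presheaf.map (homOfLE (hVW.trans inf_le_left)).op s₀
    have hg : X.presheaf.germ V x hxV g = X.presheaf.germ R₀ x hxR g₀ :=
      TopCat.Presheaf.germ_res_apply _ _ _ _ _
    have hs : gm M x hxV s = gm M x hxW s₀ := gm_map M _ x hxV s₀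
    rw [← hs, ← hg, ← map_smul, ← gm_smul, PrimDecLib.cokernel_π_eq_zero_iff,
      PrimDecLib.mem_range_ι_iff] at h0
    obtain ⟨W', hxW', s', hs', hgs'⟩ := h0
    obtain ⟨O, hxO, i₁, i₂, hO⟩ := TopCat.Presheaf.germ_eq M.presheaf x hxW' hxV s' (g • s) hgs'
    let far : Finset X := T'.filter fun η => ¬ η ⤳ x
    let V₁ : X.Opens := V ⊓ ⟨(⋃ η ∈ far, closure ({η} : Set X))ᶜ,
      (Set.Finite.isClosed_biUnion far.finite_toSet fun η _ => isClosed_closure).isOpen_compl⟩
    have hxV₁ : x ∈ V₁ := ⟨hxV, fun h => by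
      obtain ⟨η, hη, hx⟩ := Set.mem_iUnion₂.mp h
      exact (Finset.mem_filter.mp hη).2 (specializes_iff_mem_closure.mpr hx)⟩
    rw [← hs, PrimDecLib.cokernel_π_eq_zero_iff, PrimDecLib.mem_range_ι_iff]
    refine ⟨V₁, hxV₁, M.presheaf.map (homOfLE inf_le_left).op s, fun η hη hηV₁ => ?_, gm_map M _ x hxV₁ s⟩
    rw [gm_map]
    have hsp : η ⤳ x := by
      by_contra hh
      exact hηV₁.2 (Set.mem_iUnion₂.mpr ⟨η, Finset.mem_filter.mpr ⟨hη, hh⟩, subset_closure rfl⟩)
    have hηV : η ∈ V := hηV₁.1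
    have hηO : η ∈ O := hsp.mem_open O.isOpen hxO
    have h1 : gm M η (i₁.le hηO) s' = gm M η hηV (g • s) :=
      ((gm_map M i₁.le η hηO s').symm.trans (congr_arg (gm M η hηO) hO)).trans (gm_map M i₂.le η hηO (g • s))
    have h2 := (Submodule.mem_bot _).mp (hs' η hη (i₁.le hηO))
    rw [h1, gm_smul] at h2
    refine (Submodule.mem_bot _).mpr ?_
    letI := (isField_stalk_generic (hT'.mp hη).1).toField
    refine (smul_eq_zero.mp h2).resolve_left fun hzero => ?_
    haveI := hV.isLocalization_stalk ⟨η, hηV⟩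
    letI : Algebra Γ(X, V) (X.presheaf.stalk η) := TopCat.Presheaf.algebra_section_stalk X.presheaf ⟨η, hηV⟩
    obtain ⟨⟨m, hm⟩, hmg⟩ := (IsLocalization.map_eq_zero_iff (hV.primeIdealOf ⟨η, hηV⟩).asIdeal.primeCompl
      (X.presheaf.stalk η) g).mp hzero
    have hmx : X.presheaf.germ V x hxV m = 0 := by
      have := congrArg (X.presheaf.germ V x hxV) hmg
      rw [map_mul, map_zero] at this
      rw [hg] at this
      exact hr.2.eq_iff.mp (this.trans (zero_mul _).symm)
    have hu : IsUnit (X.presheaf.germ V η hηV m) := AssPointLib.isUnit_germ hV hηV hm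
    refine hu.ne_zero ?_
    rw [← TopCat.Presheaf.germ_stalkSpecializes_apply X.presheaf hxV hsp, hmx, map_zero]
  · by_contra hηT
    obtain ⟨a, ha⟩ := (mem_support_iff_nonzero _ η).mp hs
    obtain ⟨b, rfl⟩ := PrimDecLib.cokernel_π_surjective ι η a
    obtain ⟨V, hηV, s, rfl⟩ := exists_gm_eq M η b
    refine ha ((PrimDecLib.cokernel_π_eq_zero_iff ι η _).mpr ((PrimDecLib.mem_range_ι_iff _ η _).mpr
      ⟨V ⊓ ⟨Tᶜ, hT.1.isOpen_compl⟩, ⟨hηV, hηT⟩, M.presheaf.map (homOfLE inf_le_left).op s,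
        fun z hz hzW => absurd (hT'.mp hz).2 hzW.2, gm_map M _ η _ s⟩))
  · obtain ⟨v, hv⟩ := (mem_support_iff_nonzero _ η).mp (mem_support_tf1 hM hη)
    refine (mem_support_iff_nonzero _ η).mpr ⟨((St η).map (cokernel.π ι)).hom v, fun h => hv ?_⟩
    obtain ⟨V, hηV, s, hs, rfl⟩ := (PrimDecLib.mem_range_ι_iff _ η _).mp
      ((PrimDecLib.cokernel_π_eq_zero_iff ι η _).mp h)
    exact (Submodule.mem_bot _).mp (hs η (hT'.mpr ⟨hη, hηT⟩) hηV)

end TFModLib

end
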