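import Groth.Agent.TFModLib.Tower

/-!
# Towers of modifications that decompose
-/

set_option autoImplicit false
set_option linter.style.haveILetI false
set_option linter.unusedSectionVars false

universe u

open CategoryTheory CategoryTheory.Limits AlgebraicGeometry TopologicalSpace Opposite
open DevissLib IntMultLib TFQuotLib

noncomputable section

namespace TFModLib

/-- When the modification decomposes, the old quotient maps isomorphically onto the new one. -/
theorem isIso_step {k : Type u} [Field k] {X : Scheme.{u}} [X.Over (Spec (CommRingCat.of k))]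
    [IsProper (X ↘ Spec (CommRingCat.of k))] [AlgebraicGeometry.IsNoetherian X] [IsReduced X]
    (hd : topologicalKrullDim X ≤ 1) {M GY N : X.Modules} {Y Y' : Set X} {πY : M ⟶ GY} {a : GY ⟶ N} {b : N ⟶ M}
    (hM : TFOne.IsTF1 X M) (hGY : TFOne.IsQuotOn X M Y GY πY) (h : IsModif πY a b)
    (hY'm : ∀ η ∈ genericPoints X, η ∈ Y' ↔ η ∉ Y) (hgY' : GDense Y') (hcov : Y ∪ Y' = Set.univ)
    {G1 G2 : X.Modules} {π1 : N ⟶ G1} {π2 : N ⟶ G2} (h1 : TFOne.IsQuotOn X N Y G1 π1)
    (h2 : TFOne.IsQuotOn X N Y' G2 π2) (hdec : IsIso (biprod.lift π1 π2)) : IsIso (a ≫ π1) := by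
  classical
  have hN := h.isTF1 hM hGY
  haveI := h.mono
  obtain ⟨GM, πM, hGM⟩ := exists_quot hM gdense_univ
  obtain ⟨GE, πE, hGE⟩ := exists_quot hM (T := (∅ : Set X)) ⟨isClosed_empty, fun x hx => hx.elim⟩
  have eM := beta_univ (k := k) hM hGM
  have c2 := (h.compare (V := Y') hM hGY (k := k) hd (Set.empty_subset Y) (Z := Y')
    (fun η hη => iff_of_false (Set.notMem_empty η) fun h' => (hY'm η hη).mp h'.2 h'.1) h2 hGE
    (hcov.symm ▸ hGM)).2.2 hgY' (fun η hη => ⟨fun h' => ⟨h', (hY'm η hη).mp h'⟩, fun h' => h'.1⟩) h2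
  have eN := h.euler_eq hM hGY (k := k)
  have e1 := (isIso_lift_iff (k := k) hd hN hY'm h1 h2).mp hdec
  haveI := hGY.2.1.1
  haveI := h1.2.1.1
  haveI : Mono (a ≫ π1) := mono_of_generic _ hGY.2.1 hGY.2.2.1 h1.2.1.1 fun η hη u v huv => by
    by_cases hηY : η ∈ Y
    · rw [stalk_comp, stalk_comp] at huv
      exact stalk_inj a η (injective_quot hN h1 hη hηY huv)
    · haveI : Subsingleton ((St η).obj GY) := not_not.mp fun hh => hηY (hGY.2.2.2 ▸ hh)
      exact Subsingleton.elim _ _
  have hS : (ShortComplex.mk (a ≫ π1) (cokernel.π _) (cokernel.condition _)).ShortExact :=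
    { exact := ShortComplex.exact_of_g_is_cokernel _ (cokernelIsCokernel _) }
  have hC : Coh.IsCoh (cokernel (a ≫ π1)) := QCohLib.isCoh_cokernel _ hGY.2.1.1 h1.2.1
  have e := CurvLib.euler_add_of_isCoh hS (k := k) hGY.2.1 h1.2.1 hC
  simp only at e
  haveI : Epi (a ≫ π1) := Preadditive.epi_of_isZero_cokernel _
    (isZero_of_euler_eq_zero (k := k) hd hC (fun η hη hs => hs (Module.length_eq_zero_iff.mp (by
      have el := len_add hS η
      simp only at el
      change IntMultLib.len (cokernel (a ≫ π1)) η = 0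
      rw [len_quot hN h1 hη, len_quot hM hGY hη] at el
      generalize IntMultLib.len (cokernel (a ≫ π1)) η = l at el ⊢
      cases l with
      | top => by_cases h' : η ∈ Y <;> simp [h'] at el
      | coe l => by_cases h' : η ∈ Y <;> simp [h'] at el <;> norm_cast at el ⊢ <;> omega))) (by omega))
  exact isIso_of_mono_of_epi _

variable {R : Type u} [CommRing R] [IsDomain R] [IsDiscreteValuationRing R] [IsAdicComplete (IsLocalRing.maximalIdeal R) R]
  {X : Scheme.{u}} (f : X ⟶ Spec (CommRingCat.of R)) [IsProper f] {Xs : Scheme.{u}}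
  [Xs.Over (Spec (CommRingCat.of (IsLocalRing.ResidueField R)))] [IsReduced Xs] (i : Xs ⟶ X)

/-- A tower of decomposing modifications has a flat limit quotient. -/
theorem exists_flat_quotient
    (hsq : IsPullback i (Xs ↘ Spec (CommRingCat.of (IsLocalRing.ResidueField R))) f
      (Spec.map (CommRingCat.ofHom (IsLocalRing.residue R))))
    (hd : topologicalKrullDim Xs ≤ 1) (In : ℕ → X.Modules) (hIc : Coh.IsCoh (In 0))
    (hIf : FlatMod.IsFlatOver f (In 0)) (hIs : TFOne.IsTF1 Xs ((Scheme.Modules.pullback i).obj (In 0)))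
    {Y Y' : Set Xs} (hY'm : ∀ η ∈ genericPoints (Xs : Type u), η ∈ Y' ↔ η ∉ Y) (hgY' : GDense Y')
    (hcov : Y ∪ Y' = Set.univ) (G G' : ℕ → Xs.Modules) (π : ∀ n, (Scheme.Modules.pullback i).obj (In n) ⟶ G n)
    (π' : ∀ n, (Scheme.Modules.pullback i).obj (In n) ⟶ G' n)
    (hG : ∀ n, TFOne.IsQuotOn Xs ((Scheme.Modules.pullback i).obj (In n)) Y (G n) (π n))
    (hG' : ∀ n, TFOne.IsQuotOn Xs ((Scheme.Modules.pullback i).obj (In n)) Y' (G' n) (π' n))
    (hstep : ∀ n, In (n + 1) = kernel ((Scheme.Modules.pullbackPushforwardAdjunction i).unit.app (In n) ≫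
      (Scheme.Modules.pushforward i).map (π n)))
    (hdec : ∀ n, IsIso (biprod.lift (π n) (π' n))) :
    ∃ (F : X.Modules) (p : In 0 ⟶ F), Epi p ∧ FlatMod.IsFlatOver f F ∧
      ∃ e : (Scheme.Modules.pullback i).obj F ≅ G 0, (Scheme.Modules.pullback i).map p ≫ e.hom = π 0 := by
  haveI : IsProper (Xs ↘ Spec (CommRingCat.of (IsLocalRing.ResidueField R))) :=
    MorphismProperty.of_isPullback hsq ‹_›
  haveI := CurvLib.isNoetherian (IsLocalRing.ResidueField R) (X := Xs)
  haveI := isClosedImmersion_of_isPullback f i _ hsq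
  haveI : IsLocallyNoetherian X := LocallyOfFiniteType.isLocallyNoetherian f
  letI : X.Over (Spec (CommRingCat.of R)) := ⟨f⟩
  obtain ⟨ϖ, hϖ⟩ := IsDiscreteValuationRing.exists_irreducible R
  have hinv : ∀ n, Coh.IsCoh (In n) ∧ FlatMod.IsFlatOver f (In n) ∧
      TFOne.IsTF1 Xs ((Scheme.Modules.pullback i).obj (In n)) := by
    intro n
    induction n with
    | zero => exact ⟨hIc, hIf, hIs⟩
    | succ n ih =>
      obtain ⟨h1, h2, h3⟩ := ih
      haveI := (hG n).1
      haveI := h1.1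
      obtain ⟨j, t, a, b, ha, hab, hbπ, hex, hran, hcoh, hj, -⟩ :=
        exists_extension' f i _ hϖ hsq h1 h2 (hG n).2.1 (π n) (hstep n)
      refine ⟨?_, isFlatOver_of_injective f hϖ fun x v w hvw => ?_, IsModif.isTF1 h3 (hG n) ⟨ha, hab, hbπ, hex, hran, hcoh⟩⟩
      · rw [hstep n]
        exact QCohLib.isCoh_kernel _ h1 (QCohLib.isCoh_push_finite i (G n) (hG n).2.1).1
      · refine stalk_inj j x (smul_rho_injective f h2 hϖ.ne_zero x ?_)
        exact ((map_smul _ _ _).symm.trans (congrArg ((St x).map j).hom hvw)).trans (map_smul _ _ _)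
  have hext := fun n => haveI := (hG n).1; exists_extension' f i (Xs ↘ Spec (CommRingCat.of (IsLocalRing.ResidueField R)))
    hϖ hsq (hinv n).1 (hinv n).2.1 (hG n).2.1 (π n) (hstep n)
  choose j t a b ha hab hbπ hex hran hcoh hj hb htj hta hoff hiff using hext
  have hiso : ∀ n, IsIso (a n ≫ π (n + 1)) := fun n =>
    isIso_step (k := IsLocalRing.ResidueField R) hd (hinv n).2.2 (hG n)
      ⟨ha n, hab n, hbπ n, hex n, hran n, hcoh n⟩ hY'm hgY' hcov (hG (n + 1)) (hG' (n + 1)) (hdec (n + 1))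
  let W : Tower (R := R) (X := X) ϖ := ⟨In, j, t, hj, htj⟩
  have hα : ∀ n, ∃ α : G 0 ⟶ G n, IsIso α ∧ (Scheme.Modules.pullback i).map (W.T n) ≫ π n = π 0 ≫ α := by
    intro n
    induction n with
    | zero => exact ⟨𝟙 _, inferInstance, by
        rw [show W.T 0 = 𝟙 (In 0) from rfl, CategoryTheory.Functor.map_id, Category.id_comp, Category.comp_id]⟩
    | succ n ih =>
      obtain ⟨α, hα1, hα2⟩ := ih
      haveI := hα1
      haveI := hiso n
      refine ⟨α ≫ a n ≫ π (n + 1), inferInstance, ?_⟩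
      rw [show W.T (n + 1) = W.T n ≫ t n from rfl, Functor.map_comp, ← hta n]
      simp only [Category.assoc]
      rw [← Category.assoc, hα2, Category.assoc]
  have hgen : ∀ n (x : X) (u : (St x).obj (W.obj n)), ∃ v w,
      u = ((St x).map (W.j n)).hom v + ((St x).map (W.T n)).hom w := fun n x u => by
    by_cases hx : x ∈ Set.range ⇑i
    · obtain ⟨z, rfl⟩ := hx
      obtain ⟨α, hα1, hα2⟩ := hα n
      haveI := hα1
      haveI := (hG 0).1
      obtain ⟨m, hm⟩ := stalk_surj (π 0 ≫ α) z (((St z).map (π n)).hom (res i (In n) z u))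
      obtain ⟨w, rfl⟩ := res_surjective i (In 0) z m
      rw [← hα2, stalk_comp, res_map] at hm
      have h0 : ((St z).map (π n)).hom (res i (In n) z (u - ((St (i z)).map (W.T n)).hom w)) = 0 := by
        have h1 := congrArg ((St z).map (π n)).hom (res_add i (In n) z (u - ((St (i z)).map (W.T n)).hom w)
          (((St (i z)).map (W.T n)).hom w))
        rw [sub_add_cancel, map_add, hm] at h1
        exact add_eq_right.mp h1.symm
      obtain ⟨v, hv⟩ := (hiff n z _).mp h0
      exact ⟨v, w, (sub_eq_iff_eq_add.mp hv.symm)⟩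
    · obtain ⟨v, hv⟩ := hoff n x hx u
      exact ⟨v, 0, hv.symm.trans ((add_zero _).symm.trans (congrArg _ (map_zero _).symm))⟩
  have hcancel : ∀ n (x : X) (u : (St x).obj (W.obj n)),
      (∃ v, ((St x).map (W.t n)).hom u = ((St x).map (W.j (n + 1))).hom v) →
        ∃ v, u = ((St x).map (W.j n)).hom v := fun n x u ⟨v, hv⟩ => by
    by_cases hx : x ∈ Set.range ⇑i
    · obtain ⟨z, rfl⟩ := hx
      haveI := hiso n
      have h1 := (hiff (n + 1) z (((St (i z)).map (t n)).hom u)).mpr ⟨v, hv.symm⟩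
      rw [← res_map, ← hta n, stalk_comp, ← stalk_comp (a n) (π (n + 1))] at h1
      obtain ⟨w, hw⟩ := (hiff n z u).mp (stalk_inj (a n ≫ π (n + 1)) z (h1.trans (map_zero _).symm))
      exact ⟨w, hw.symm⟩
    · obtain ⟨w, hw⟩ := hoff n x hx u
      exact ⟨w, hw.symm⟩
  haveI : IsProper (X ↘ Spec (CommRingCat.of R)) := ‹IsProper f›
  obtain ⟨F, p, -, hp, hflat, hker⟩ := W.exists_quot hgen hcancel hϖ fun n => (hinv n).1
  refine ⟨F, p, hp, hflat, ?_⟩
  haveI := hp
  haveI : Epi ((Scheme.Modules.pullback i).map p) :=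
    haveI := (Scheme.Modules.pullbackPushforwardAdjunction i).leftAdjoint_preservesColimits
    inferInstance
  haveI := (hG 0).1
  let P := (Scheme.Modules.pullback i).map p
  have hk : ∀ z m, ((St z).map P).hom m = 0 ↔ ((St z).map (π 0)).hom m = 0 := fun z m => by
    obtain ⟨v, rfl⟩ := res_surjective i (In 0) z m
    rw [res_map, res_eq_zero_iff i F z (ker_stalkMap f i _ hsq hϖ z)]
    exact (hker (i z) v).trans (hiff 0 z v).symm
  have hz : kernel.ι P ≫ π 0 = 0 := eq_zero_of_stalks _ fun z v => by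
    rw [stalk_comp]
    exact (hk z _).mp (stalk_comp_zero _ _ (kernel.condition P) z v)
  let e : (Scheme.Modules.pullback i).obj F ⟶ G 0 :=
    (Abelian.epiIsCokernelOfKernel _ (kernelIsKernel P)).desc (CokernelCofork.ofπ (π 0) hz)
  have he : P ≫ e = π 0 :=
    (Abelian.epiIsCokernelOfKernel _ (kernelIsKernel P)).fac (CokernelCofork.ofπ (π 0) hz) WalkingParallelPair.one
  haveI : Epi e := by
    haveI : Epi (P ≫ e) := he.symm ▸ (hG 0).1
    exact epi_of_epi P e
  haveI : Mono e := mono_of_stalks e fun z y hy => by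
    obtain ⟨m, rfl⟩ := stalk_surj P z y
    rw [← stalk_comp, he] at hy
    exact (hk z m).mpr hy
  haveI := isIso_of_mono_of_epi e
  exact ⟨asIso e, he⟩

end TFModLib

end
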