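import Groth.Agent.DevissLib.KilledImm
import Groth.Agent.Formal2VBLib.Basic
import Groth.Agent.QCohLib.Coherent
import Mathlib.RingTheory.DiscreteValuationRing.Basic

/-!
# The special fibre over a discrete valuation ring
-/

set_option autoImplicit false
set_option linter.style.haveILetI false
set_option linter.unusedSectionVars false

universe u

open CategoryTheory CategoryTheory.Limits AlgebraicGeometry TopologicalSpace Opposite
open DevissLib
open scoped TensorProduct

noncomputable section

namespace TFModLib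

section Restriction

variable {X Z : Scheme.{u}} (i : Z ⟶ X)

/-- The restriction of a germ to a closed subscheme. -/
def res (N : X.Modules) (z : Z) (m : (St (i z)).obj N) : (St z).obj ((Scheme.Modules.pullback i).obj N) :=
  letI := (i.stalkMap z).hom.toAlgebra
  ((KFlatLib.stalkPullIso i z).inv.app N).hom ((1 : Z.presheaf.stalk z) ⊗ₜ[X.presheaf.stalk (i z)] m)

theorem res_zero (N : X.Modules) (z : Z) : res i N z 0 = 0 := by
  let := (i.stalkMap z).hom.toAlgebra
  unfold res
  rw [TensorProduct.tmul_zero]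
  exact map_zero _

theorem res_add {X Z : Scheme.{u}} (i : Z ⟶ X) (N : X.Modules) (z : Z) (m m' : (St (i z)).obj N) :
    res i N z (m + m') = res i N z m + res i N z m' := by
  let := (i.stalkMap z).hom.toAlgebra
  unfold res
  rw [TensorProduct.tmul_add]
  exact map_add _ _ _

theorem res_gm (N : X.Modules) (z : Z) {U : X.Opens} (hU : i z ∈ U) (s : Γ(N, U)) :
    res i N z (gm N (i z) hU s) =
      gm ((Scheme.Modules.pullback i).obj N) z (U := i ⁻¹ᵁ U) hU
        (((Scheme.Modules.pullbackPushforwardAdjunction i).unit.app N).app U s) :=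
  KFlatLib.stalkPullInv_germ i N z hU s

theorem res_map {N N' : X.Modules} (φ : N ⟶ N') (z : Z) (m : (St (i z)).obj N) :
    ((St z).map ((Scheme.Modules.pullback i).map φ)).hom (res i N z m) =
      res i N' z (((St (i z)).map φ).hom m) := by
  obtain ⟨U, hU, s, rfl⟩ := exists_gm_eq N (i z) m
  rw [res_gm]
  refine (gm_app _ z (U := i ⁻¹ᵁ U) hU _).trans ?_
  rw [gm_app, res_gm]
  exact congrArg (gm _ z (U := i ⁻¹ᵁ U) hU) (KFlatLib.puSec_natural i φ s)

theorem tmul_eq_zero_iff {A B M : Type u} [CommRing A] [CommRing B] [Algebra A B] [AddCommGroup M] [Module A M]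
    (hs : Function.Surjective (algebraMap A B)) {ρ : A} (hk : RingHom.ker (algebraMap A B) = Ideal.span {ρ})
    (m : M) : (1 : B) ⊗ₜ[A] m = 0 ↔ ∃ m', m = ρ • m' := by
  refine ⟨fun h => ?_, ?_⟩
  · let S : Submodule A M := LinearMap.range (LinearMap.lsmul A M ρ)
    have hb : Function.Bijective fun q : M ⧸ S => (1 : B) ⊗ₜ[A] q := by
      refine DevissLib.bijective_one_tmul hs fun a ha q => ?_
      obtain ⟨c, rfl⟩ := Ideal.mem_span_singleton'.mp (hk ▸ (RingHom.mem_ker.mpr ha) : a ∈ Ideal.span {ρ})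
      induction q using Submodule.Quotient.induction_on with
      | H q =>
        rw [← Submodule.Quotient.mk_smul, Submodule.Quotient.mk_eq_zero, mul_comm, mul_smul]
        exact ⟨c • q, rfl⟩
    have h1 := congrArg (LinearMap.lTensor B S.mkQ) h
    rw [LinearMap.lTensor_tmul, map_zero] at h1
    have h2 : S.mkQ m = 0 := hb.1 (h1.trans (TensorProduct.tmul_zero _ _).symm)
    obtain ⟨m', hm'⟩ := (Submodule.Quotient.mk_eq_zero S).mp h2
    exact ⟨m', hm'.symm⟩
  · rintro ⟨m', rfl⟩
    have hρ : algebraMap A B ρ = 0 := RingHom.mem_ker.mp (hk ▸ Ideal.mem_span_singleton_self ρ)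
    rw [← TensorProduct.smul_tmul, Algebra.smul_def, hρ, zero_mul, TensorProduct.zero_tmul]

theorem surjective_one_tmul {A B M : Type u} [CommRing A] [CommRing B] [Algebra A B] [AddCommGroup M] [Module A M]
    (hs : Function.Surjective (algebraMap A B)) : Function.Surjective fun m : M => (1 : B) ⊗ₜ[A] m := fun t => by
  induction t using TensorProduct.induction_on with
  | zero => exact ⟨0, TensorProduct.tmul_zero _ _⟩
  | tmul b m =>
    obtain ⟨a, rfl⟩ := hs b
    refine ⟨a • m, ?_⟩
    change (1 : B) ⊗ₜ[A] (a • m) = _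
    rw [← TensorProduct.smul_tmul, Algebra.smul_def, mul_one]
  | add t t' h h' =>
    obtain ⟨m, rfl⟩ := h
    obtain ⟨m', rfl⟩ := h'
    exact ⟨m + m', TensorProduct.tmul_add _ _ _⟩

variable [IsClosedImmersion i]

theorem res_surjective (N : X.Modules) (z : Z) : Function.Surjective (res i N z) := by
  let := (i.stalkMap z).hom.toAlgebra
  exact (ConcreteCategory.bijective_of_isIso ((KFlatLib.stalkPullIso i z).inv.app N)).2.comp
    (surjective_one_tmul (A := X.presheaf.stalk (i z)) (B := Z.presheaf.stalk z) (i.stalkMap_surjective z))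

theorem res_eq_zero_iff (N : X.Modules) (z : Z) {ρ : X.presheaf.stalk (i z)}
    (hk : RingHom.ker (i.stalkMap z).hom = Ideal.span {ρ}) (m : (St (i z)).obj N) :
    res i N z m = 0 ↔ ∃ m', m = ρ • m' := by
  let := (i.stalkMap z).hom.toAlgebra
  refine Iff.trans ⟨fun h => ?_, fun h => ?_⟩
    (tmul_eq_zero_iff (B := Z.presheaf.stalk z) (M := (St (i z)).obj N) (i.stalkMap_surjective z) hk m)
  · exact (ConcreteCategory.bijective_of_isIso ((KFlatLib.stalkPullIso i z).inv.app N)).1
      (h.trans (map_zero _).symm)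
  · exact (congrArg ((KFlatLib.stalkPullIso i z).inv.app N).hom h).trans (map_zero _)

end Restriction

section DVR

variable {R : Type u} [CommRing R] [IsDomain R] [IsDiscreteValuationRing R]
  {X Xs : Scheme.{u}} (f : X ⟶ Spec (CommRingCat.of R)) (i : Xs ⟶ X)
  (g : Xs ⟶ Spec (CommRingCat.of (IsLocalRing.ResidueField R)))
  (hsq : IsPullback i g f (Spec.map (CommRingCat.ofHom (IsLocalRing.residue R))))

include hsq in
theorem isClosedImmersion_of_isPullback : IsClosedImmersion i :=
  haveI : IsClosedImmersion (Spec.map (CommRingCat.ofHom (IsLocalRing.residue R))) :=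
    IsClosedImmersion.spec_of_surjective _ IsLocalRing.residue_surjective
  MorphismProperty.of_isPullback hsq.flip ‹_›

/-- The germ of the image of an element of the base. -/
def rho (ϖ : R) (x : X) : X.presheaf.stalk x := X.presheaf.germ ⊤ x trivial (Coh.toGlobal f ϖ)

include hsq in
theorem appTop_toGlobal {ϖ : R} (h : IsLocalRing.residue R ϖ = 0) : i.appTop (Coh.toGlobal f ϖ) = 0 := by
  let r := Spec.map (CommRingCat.ofHom (IsLocalRing.residue R))
  have h1 : i.appTop (Coh.toGlobal f ϖ) =
      g.appTop (r.appTop ((Scheme.ΓSpecIso (CommRingCat.of R)).inv ϖ)) := by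
    show (f.appTop ≫ i.appTop) ((Scheme.ΓSpecIso (CommRingCat.of R)).inv ϖ) =
      (r.appTop ≫ g.appTop) ((Scheme.ΓSpecIso (CommRingCat.of R)).inv ϖ)
    rw [← Scheme.Hom.comp_appTop, ← Scheme.Hom.comp_appTop, hsq.w]
  have h2 : r.appTop ((Scheme.ΓSpecIso (CommRingCat.of R)).inv ϖ) = 0 := by
    refine (ConcreteCategory.congr_hom
      (Scheme.ΓSpecIso_inv_naturality (CommRingCat.ofHom (IsLocalRing.residue R))) ϖ).symm.trans ?_
    change (Scheme.ΓSpecIso (CommRingCat.of (IsLocalRing.ResidueField R))).inv (IsLocalRing.residue R ϖ) = 0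
    rw [h]
    exact map_zero _
  rw [h1, h2]
  exact map_zero _

variable [IsClosedImmersion i]

include hsq in
theorem stalkMap_rho {ϖ : R} (h : IsLocalRing.residue R ϖ = 0) (z : Xs) :
    i.stalkMap z (rho f ϖ (i z)) = 0 := by
  refine (Scheme.Hom.germ_stalkMap_apply i ⊤ z trivial _).trans ?_
  rw [show i.app ⊤ (Coh.toGlobal f ϖ) = 0 from appTop_toGlobal f i g hsq h]
  exact map_zero _

include hsq in
theorem ker_stalkMap {ϖ : R} (hϖ : Irreducible ϖ) (z : Xs) :
    RingHom.ker (i.stalkMap z).hom = Ideal.span {rho f ϖ (i z)} := by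
  have hm : IsLocalRing.maximalIdeal R = Ideal.span {ϖ} := hϖ.maximalIdeal_eq
  have hres : IsLocalRing.residue R ϖ = 0 :=
    Ideal.Quotient.eq_zero_iff_mem.mpr (hm ▸ Ideal.mem_span_singleton_self ϖ)
  refine le_antisymm (fun a ha => ?_) (by
    rw [Ideal.span_le, Set.singleton_subset_iff]
    exact RingHom.mem_ker.mpr (stalkMap_rho f i g hsq hres z))
  let x := i z
  let A := X.presheaf.stalk x
  let I : Ideal A := Ideal.span {rho f ϖ x}
  have hI : I ≠ ⊤ := fun h => by
    have h1 : IsUnit (rho f ϖ x) := Ideal.span_singleton_eq_top.mp h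
    have h2 := h1.map (i.stalkMap z).hom
    rw [show (i.stalkMap z).hom (rho f ϖ x) = 0 from stalkMap_rho f i g hsq hres z] at h2
    exact not_isUnit_zero h2
  have : Nontrivial (A ⧸ I) := Ideal.Quotient.nontrivial_iff.2 hI
  have : IsLocalRing (A ⧸ I) := .of_surjective' _ Ideal.Quotient.mk_surjective
  have : IsLocalHom (Ideal.Quotient.mk I) := .of_surjective _ Ideal.Quotient.mk_surjective
  let σ : R →+* A := (X.presheaf.germ ⊤ x trivial).hom.comp (Coh.toGlobal f)
  have hσ : X.fromSpecStalk x ≫ f = Spec.map (CommRingCat.ofHom σ) := by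
    have h1 : f ≫ (Spec (CommRingCat.of R)).toSpecΓ = X.toSpecΓ ≫ Spec.map f.appTop := Scheme.toSpecΓ_naturality f
    rw [← SpecMap_ΓSpecIso_hom] at h1
    have h2 : f = X.toSpecΓ ≫ Spec.map f.appTop ≫ Spec.map (Scheme.ΓSpecIso (CommRingCat.of R)).inv := by
      rw [← Category.assoc, ← h1, Category.assoc, ← Spec.map_comp, Iso.inv_hom_id, Spec.map_id, Category.comp_id]
    conv_lhs => rw [h2]
    rw [Scheme.fromSpecStalk_toSpecΓ_assoc, ← Spec.map_comp, ← Spec.map_comp]
    rfl
  let φ : IsLocalRing.ResidueField R →+* A ⧸ I :=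
    Ideal.Quotient.lift _ ((Ideal.Quotient.mk I).comp σ) fun b hb => by
      obtain ⟨c, rfl⟩ := Ideal.mem_span_singleton'.mp (hm ▸ hb)
      rw [map_mul]
      refine mul_eq_zero_of_right _ (Ideal.Quotient.eq_zero_iff_mem.mpr ?_)
      exact Ideal.mem_span_singleton_self _
  let q : Spec (CommRingCat.of (A ⧸ I)) ⟶ X := Spec.map (CommRingCat.ofHom (Ideal.Quotient.mk I)) ≫ X.fromSpecStalk x
  have hq : q ≫ f = Spec.map (CommRingCat.ofHom φ) ≫ Spec.map (CommRingCat.ofHom (IsLocalRing.residue R)) := by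
    rw [Category.assoc, hσ, ← Spec.map_comp, ← Spec.map_comp]
    rfl
  let l : Spec (CommRingCat.of (A ⧸ I)) ⟶ Xs := hsq.lift q (Spec.map (CommRingCat.ofHom φ)) hq
  have hl : l ≫ i = q := hsq.lift_fst _ _ _
  have hzy : l (IsLocalRing.closedPoint _) = z := by
    apply i.isEmbedding.injective
    rw [← Scheme.Hom.comp_apply, hl, Scheme.Hom.comp_apply,
      Spec_closedPoint (f := CommRingCat.ofHom (Ideal.Quotient.mk I)), Scheme.fromSpecStalk_closedPoint]
  obtain ⟨z', cl, rfl, hcl⟩ : ∃ (z' : Xs) (cl : Xs.presheaf.stalk z' ⟶ CommRingCat.of (A ⧸ I)),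
      z' = z ∧ l = Spec.map cl ≫ Xs.fromSpecStalk z' :=
    ⟨_, Scheme.stalkClosedPointTo l, hzy, (Scheme.Spec_stalkClosedPointTo_fromSpecStalk l).symm⟩
  have hmk : CommRingCat.ofHom (Ideal.Quotient.mk I) = i.stalkMap z' ≫ cl := by
    apply Spec.map_injective
    rw [← cancel_mono (X.fromSpecStalk x), Spec.map_comp, Category.assoc,
      Scheme.SpecMap_stalkMap_fromSpecStalk, ← Category.assoc, ← hcl, hl]
  have := ConcreteCategory.congr_hom hmk a
  rw [CategoryTheory.comp_apply, show i.stalkMap z' a = 0 from ha, map_zero] at this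
  exact Ideal.Quotient.eq_zero_iff_mem.1 this

/-- A uniformizer acts injectively on a flat module. -/
theorem smul_rho_injective {M : X.Modules} (hM : FlatMod.IsFlatOver f M) {ϖ : R} (hϖ : ϖ ≠ 0) (x : X) :
    Function.Injective fun m : (St x).obj M => rho f ϖ x • m := by
  let S : Scheme.{u} := Spec (CommRingCat.of R)
  let B := S.presheaf.stalk (f x)
  let b : B := S.presheaf.germ ⊤ (f x) trivial ((Scheme.ΓSpecIso (CommRingCat.of R)).inv ϖ)
  have hb : b ≠ 0 := fun h => by
    refine hϖ ?_
    haveI : IsIntegral S := inferInstanceAs (IsIntegral (Spec (CommRingCat.of R)))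
    have h' := germ_injective_of_isIntegral S (f x) (U := ⊤) trivial (h.trans (map_zero _).symm)
    have := congrArg (Scheme.ΓSpecIso (CommRingCat.of R)).hom h'
    rw [map_zero] at this
    rw [← this]
    exact (ConcreteCategory.congr_hom (Scheme.ΓSpecIso (CommRingCat.of R)).inv_hom_id ϖ).symm
  have hc : f.stalkMap x b = rho f ϖ x := Scheme.Hom.germ_stalkMap_apply f ⊤ x trivial _
  haveI : IsIntegral S := inferInstanceAs (IsIntegral (Spec (CommRingCat.of R)))
  letI := FlatMod.moduleStalkOver f M x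
  haveI : Module.Flat B (M.presheaf.stalk x) := hM x
  haveI : Module.IsTorsionFree B (M.presheaf.stalk x) := inferInstance
  intro m m' h
  refine Module.IsTorsionFree.isSMulRegular (M := M.presheaf.stalk x) (isRegular_of_ne_zero hb) ?_
  show f.stalkMap x b • m = f.stalkMap x b • m'
  rw [hc]
  exact h

end DVR

end TFModLib

end
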