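import Groth.Agent.TFModLib.Gen
import Groth.Agent.TFModLib.Res
import Groth.Agent.TFQuotLib.Push

/-!
# Torsion free modules on a subcurve
-/

set_option autoImplicit false
set_option linter.style.haveILetI false
set_option linter.unusedSectionVars false

universe u

open CategoryTheory CategoryTheory.Limits AlgebraicGeometry TopologicalSpace Opposite
open DevissLib IntMultLib TFQuotLib

noncomputable section

namespace TFModLib

section Tors

variable {X : Scheme.{u}} [AlgebraicGeometry.IsNoetherian X] [IsReduced X]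

theorem germ_ne_zero_of_regular {V : X.Opens} (hV : IsAffineOpen V) {x η : X} (hxV : x ∈ V) (hηV : η ∈ V)
    (hsp : η ⤳ x) {g : Γ(X, V)} (hr : IsRegular (X.presheaf.germ V x hxV g)) :
    X.presheaf.germ V η hηV g ≠ 0 := fun hzero => by
  haveI := hV.isLocalization_stalk ⟨η, hηV⟩
  letI : Algebra Γ(X, V) (X.presheaf.stalk η) := TopCat.Presheaf.algebra_section_stalk X.presheaf ⟨η, hηV⟩
  obtain ⟨⟨m, hm⟩, hmg⟩ := (IsLocalization.map_eq_zero_iff (hV.primeIdealOf ⟨η, hηV⟩).asIdeal.primeCompl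
    (X.presheaf.stalk η) g).mp hzero
  have hmx : X.presheaf.germ V x hxV m = 0 := by
    have h := congrArg (X.presheaf.germ V x hxV) hmg
    rw [map_mul, map_zero] at h
    exact hr.2.eq_iff.mp (h.trans (zero_mul _).symm)
  refine (AssPointLib.isUnit_germ hV hηV hm).ne_zero ?_
  rw [← TopCat.Presheaf.germ_stalkSpecializes_apply X.presheaf hxV hsp, hmx, map_zero]

/-- A coherent module without embedded associated points is torsion free. -/
theorem torsionFree_of_asso_generic {G : X.Modules} (hG : Coh.IsCoh G)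
    (h : ∀ η, DevissLib.Asso G η → η ∈ genericPoints X) : TorSh.IsTorsionFree G := fun x => ⟨fun r hr a₁ a₂ ha => by
  suffices key : ∀ a : (St x).obj G, r • a = 0 → a = 0 from
    sub_eq_zero.mp (key _ ((smul_sub r _ _).trans (sub_eq_zero.mpr ha)))
  intro a h0
  by_contra hne
  obtain ⟨W, hxW, s₀, rfl⟩ := exists_gm_eq G x a
  obtain ⟨R₀, hxR, g₀, rfl⟩ := X.presheaf.exists_germ_eq (x := x) r
  rw [← gm_map G (inf_le_left : W ⊓ R₀ ≤ W) x ⟨hxW, hxR⟩ s₀] at h0 hne
  rw [← TopCat.Presheaf.germ_res_apply X.presheaf (homOfLE (inf_le_right : W ⊓ R₀ ≤ R₀)) x ⟨hxW, hxR⟩ g₀] at h0 hr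
  rw [← gm_smul] at h0
  obtain ⟨O, hxO, i₁, i₂, hO⟩ := TopCat.Presheaf.germ_eq G.presheaf x (U := W ⊓ R₀) (V := W ⊓ R₀) ⟨hxW, hxR⟩
    ⟨hxW, hxR⟩ _ 0 (h0.trans (map_zero _).symm)
  rw [map_zero] at hO
  classical
  let far : Finset X := finite_generic.toFinset.filter fun η => ¬ η ⤳ x
  let V₁ : X.Opens := O ⊓ ⟨(⋃ η ∈ far, closure ({η} : Set X))ᶜ,
    (Set.Finite.isClosed_biUnion far.finite_toSet fun η _ => isClosed_closure).isOpen_compl⟩
  have hxV₁ : x ∈ V₁ := ⟨hxO, fun h => by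
    obtain ⟨η, hη, hx⟩ := Set.mem_iUnion₂.mp h
    exact (Finset.mem_filter.mp hη).2 (specializes_iff_mem_closure.mpr hx)⟩
  obtain ⟨V, hV, hxV, hV₁⟩ := TopologicalSpace.Opens.isBasis_iff_nbhd.mp X.isBasis_affineOpens hxV₁
  have hVO : V ≤ O := hV₁.trans inf_le_left
  rw [← gm_map G (hVO.trans i₁.le) x hxV] at hne
  let s : Γ(G, V) := G.presheaf.map (homOfLE (hVO.trans i₁.le)).op (G.presheaf.map (homOfLE inf_le_left).op s₀)
  let g : Γ(X, V) := X.presheaf.map (homOfLE (hVO.trans i₁.le)).op (X.presheaf.map (homOfLE inf_le_right).op g₀)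
  rw [← TopCat.Presheaf.germ_res_apply X.presheaf (homOfLE (hVO.trans i₁.le)) x hxV] at hr
  obtain ⟨z, hzV, c, hc0, hck⟩ := PrimDecLib.exists_killed_specializes hG hV hxV s hne
  have hzg : z ∈ genericPoints X := h z ⟨gm G z hzV (c • s), hc0, hck⟩
  have hgs : g • s = 0 := by
    have h2 := congr_arg (G.presheaf.map (homOfLE hVO).op) hO
    rw [map_zero] at h2
    refine Eq.trans ?_ h2
    refine Eq.trans ?_ (ConcreteCategory.congr_hom (G.presheaf.map_comp i₁.op (homOfLE hVO).op) _)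
    exact (QCohLib.map_smul' G _ _ _).symm
  letI := (isField_stalk_generic hzg).toField
  refine hc0 ((smul_eq_zero.mp (?_ : X.presheaf.germ V z hzV g • gm G z hzV (c • s) = 0)).resolve_left ?_)
  · rw [← gm_smul, smul_comm, hgs, smul_zero]
    exact gm_zero G z hzV
  · intro hg0
    have hsp : z ⤳ x := by
      by_contra hh
      exact (hV₁ hzV).2 (Set.mem_iUnion₂.mpr
        ⟨z, Finset.mem_filter.mpr ⟨(Set.Finite.mem_toFinset _).mpr hzg, hh⟩, subset_closure rfl⟩)
    exact germ_ne_zero_of_regular hV hxV hzV hsp hr hg0⟩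

end Tors

end TFModLib

end
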